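import Mathlib

/-!
# Degrees congruent to `± 1` modulo a Fermat prime
-/

set_option autoImplicit false

namespace CfsgLib.SmallCofactor

theorem small_degree {i g k : ℕ} (hi : 1 ≤ i) (hg : g % 2 = 1) (hgf : g ≤ 2 ^ i + 1) (hk : k ≤ i)
    {δ : ℤ} (hδ : δ = 1 ∨ δ = -1) (h : ((2 : ℤ) ^ (i + 1) + 1) ∣ (g : ℤ) * 2 ^ k - δ) :
    δ = 1 ∧ ((g = 1 ∧ k = 0) ∨ (g = 2 ^ i + 1 ∧ k = 1)) := by
  obtain ⟨j, hj⟩ : ∃ j, i + 1 = k + j := ⟨i + 1 - k, by omega⟩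
  have h1 : ((2 : ℤ) ^ (i + 1) + 1) ∣ (g : ℤ) + δ * 2 ^ j := by
    have h2 := ((dvd_mul_left ((2 : ℤ) ^ (i + 1) + 1) (g : ℤ))).sub (h.mul_right ((2 : ℤ) ^ j))
    rwa [show (g : ℤ) * ((2 : ℤ) ^ (i + 1) + 1) - ((g : ℤ) * 2 ^ k - δ) * 2 ^ j =
      (g : ℤ) + δ * 2 ^ j by rw [hj, pow_add]; ring] at h2
  have hA : 2 ^ (i + 1) = 2 * 2 ^ i := pow_succ' 2 i
  have hj2 : 2 ^ j ≤ 2 ^ (i + 1) := Nat.pow_le_pow_right two_pos (by omega)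
  have hjeven : 2 ^ j % 2 = 0 := by
    obtain ⟨l, rfl⟩ : ∃ l, j = l + 1 := ⟨j - 1, by omega⟩
    rw [pow_succ]
    omega
  obtain ⟨c, hc⟩ := h1
  have hi2 : 2 ≤ 2 ^ i := by simpa using Nat.pow_le_pow_right two_pos hi
  have ecast : ((2 : ℤ) ^ (i + 1)) = ((2 ^ (i + 1) : ℕ) : ℤ) := by push_cast; rfl
  have ejcast : ((2 : ℤ) ^ j) = ((2 ^ j : ℕ) : ℤ) := by push_cast; rfl
  rw [ecast, ejcast] at hc
  generalize hP : 2 ^ (i + 1) = E at hA hj2 hc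
  have hg0 : (1 : ℤ) ≤ (g : ℤ) := by omega
  have hgE : (g : ℤ) ≤ (E : ℤ) := by omega
  have hjE : ((2 ^ j : ℕ) : ℤ) ≤ (E : ℤ) := by exact_mod_cast hj2
  have hj0 : (0 : ℤ) < ((2 ^ j : ℕ) : ℤ) := by exact_mod_cast Nat.two_pow_pos j
  rcases hδ with rfl | rfl
  · refine ⟨rfl, ?_⟩
    have hc1 : c = 1 := by
      have l1 : 0 < c := by
        by_contra hneg
        nlinarith [not_lt.1 hneg]
      have l2 : c < 2 := by
        by_contra hge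
        nlinarith [not_lt.1 hge]
      omega
    subst hc1
    have hgj : g + 2 ^ j = E + 1 := by omega
    have hij : i ≤ j := by
      by_contra hlt
      have h3 : 2 ^ (j + 1) ≤ 2 ^ i := Nat.pow_le_pow_right two_pos (by omega)
      rw [pow_succ] at h3
      omega
    rcases (by omega : j = i ∨ j = i + 1) with rfl | rfl
    · exact Or.inr ⟨by omega, by omega⟩
    · exact Or.inl ⟨by omega, by omega⟩
  · exfalso
    have hc0 : c = 0 := by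
      have l1 : -1 < c := by
        by_contra hneg
        nlinarith [not_lt.1 hneg]
      have l2 : c < 1 := by
        by_contra hge
        nlinarith [not_lt.1 hge]
      omega
    subst hc0
    omega

theorem degree_le_sq {i g k : ℕ} (hi : 1 ≤ i) (hg : g % 2 = 1) (hgf : g ≤ 2 ^ i + 1)
    (hd : g * 2 ^ k ≤ (2 ^ i + 1) ^ 2) {δ : ℤ} (hδ : δ = 1 ∨ δ = -1)
    (h : ((2 : ℤ) ^ (i + 1) + 1) ∣ (g : ℤ) * 2 ^ k - δ) :
    g * 2 ^ k = 1 ∨ (g * 2 ^ k = 2 * (2 ^ i + 1) ∧ δ = 1) ∨ (g * 2 ^ k = 2 ^ (i + 1) ∧ δ = -1) := by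
  rcases le_or_gt k i with hk | hk
  · obtain ⟨h1, ⟨rfl, rfl⟩ | ⟨rfl, rfl⟩⟩ := small_degree hi hg hgf hk hδ h
    · left; simp
    · right; left; exact ⟨by ring, h1⟩
  · obtain ⟨l, rfl⟩ : ∃ l, k = i + 1 + l := ⟨k - (i + 1), by omega⟩
    have hi1 : 1 ≤ 2 ^ i := Nat.one_le_two_pow
    have hg1 : 1 ≤ g := by omega
    have hl : l ≤ i := by
      by_contra hlt
      have h1 : 2 ^ (2 * i + 2) ≤ g * 2 ^ (i + 1 + l) := le_trans
        (Nat.pow_le_pow_right two_pos (by omega)) (Nat.le_mul_of_pos_left _ hg1)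
      have h2 : 2 ^ (2 * i + 2) = 4 * (2 ^ i) ^ 2 := by rw [← pow_mul, mul_comm i 2, pow_add]; ring
      have hi2 : 2 ≤ 2 ^ i := by simpa using Nat.pow_le_pow_right two_pos hi
      nlinarith
    have h3 : ((2 : ℤ) ^ (i + 1) + 1) ∣ (g : ℤ) * 2 ^ l - (-δ) := by
      have h4 := (dvd_mul_left ((2 : ℤ) ^ (i + 1) + 1) ((g : ℤ) * 2 ^ l)).sub h
      rwa [show (g : ℤ) * 2 ^ l * ((2 : ℤ) ^ (i + 1) + 1) - ((g : ℤ) * 2 ^ (i + 1 + l) - δ) =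
        (g : ℤ) * 2 ^ l - (-δ) by rw [pow_add]; ring] at h4
    obtain ⟨h1, ⟨rfl, rfl⟩ | ⟨rfl, rfl⟩⟩ := small_degree hi hg hgf hl (by omega) h3
    · right; right; exact ⟨by simp, by omega⟩
    · exfalso
      have h5 : 2 ^ (i + 1 + 1) = 4 * 2 ^ i := by rw [pow_succ, pow_succ]; ring
      rw [h5] at hd
      nlinarith

theorem bound_of_count {p d : ℕ} {a : ℕ} {R N : ℤ} (hp : p.Prime) (hd : 1 ≤ d) (hN : 0 < N)
    (hNp : ¬ (p : ℤ) ∣ 2 * N) (heq : 2 * (a : ℤ) * N * (d : ℤ) ^ 2 = (p : ℤ) * R) (hR : 0 < R)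
    (hRle : R ≤ (p : ℤ) + N * d) : N ≤ (p : ℤ) := by
  have hp0 : (0 : ℤ) < p := by exact_mod_cast hp.pos
  have hd0 : (1 : ℤ) ≤ d := by exact_mod_cast hd
  have ha : (1 : ℤ) ≤ a := by
    by_contra h
    have : (a : ℤ) = 0 := by omega
    rw [this] at heq
    nlinarith
  have hcase : (p : ℤ) ≤ a ∨ (p : ℤ) ≤ d := by
    have hpp := Nat.prime_iff_prime_int.1 hp
    have h1 : (p : ℤ) ∣ (2 * N) * ((a : ℤ) * ((d : ℤ) * d)) := ⟨R, by rw [← heq]; ring⟩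
    rcases hpp.dvd_mul.1 ((hpp.dvd_mul.1 h1).resolve_left hNp) with h2 | h2
    · exact Or.inl (Int.le_of_dvd (by linarith) h2)
    · exact Or.inr (Int.le_of_dvd (by linarith) ((hpp.dvd_mul.1 h2).elim id id))
  have hX : 0 < N * d := mul_pos hN (by linarith)
  rcases hcase with h | h
  · have h3 : 2 * (p : ℤ) * N * (d : ℤ) ^ 2 ≤ (p : ℤ) * ((p : ℤ) + N * d) := by
      calc 2 * (p : ℤ) * N * (d : ℤ) ^ 2 ≤ 2 * (a : ℤ) * N * (d : ℤ) ^ 2 := by gcongr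
        _ = (p : ℤ) * R := heq
        _ ≤ _ := mul_le_mul_of_nonneg_left hRle hp0.le
    have h4 : 2 * (N * d) * d ≤ (p : ℤ) + N * d := le_of_mul_le_mul_left (by linarith) hp0
    nlinarith
  · have h3 : 2 * N * (d : ℤ) ^ 2 ≤ (p : ℤ) * ((p : ℤ) + N * d) := by
      calc 2 * N * (d : ℤ) ^ 2 ≤ 2 * (a : ℤ) * N * (d : ℤ) ^ 2 := by
            nlinarith [mul_nonneg (mul_nonneg (sub_nonneg.2 ha) hN.le) (sq_nonneg (d : ℤ))]
        _ = (p : ℤ) * R := heq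
        _ ≤ _ := mul_le_mul_of_nonneg_left hRle hp0.le
    have h4 : 2 * (N * d) * p ≤ (p : ℤ) * ((p : ℤ) + N * d) := le_trans
      (mul_le_mul_of_nonneg_left h (by linarith)) (le_of_eq_of_le (by ring) h3)
    nlinarith

theorem bound_of_square {p b c a d : ℕ} (f t : ℤ) (hpc : p = 2 ^ c + 1) (hc : 1 ≤ c) (hne : f ≠ t)
    (hft : |f - t| < 2 ^ (c + 1)) (heq : (a : ℤ) * 2 ^ b * (d : ℤ) ^ 2 * 2 ^ c = (p : ℤ) * (f - t) ^ 2) :
    b ≤ c := by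
  by_contra hb
  obtain ⟨e, rfl⟩ : ∃ e, b = c + 1 + e := ⟨b - (c + 1), by omega⟩
  have h2p : IsCoprime (2 : ℤ) p := by
    refine ⟨-(2 ^ (c - 1) : ℕ), 1, ?_⟩
    obtain ⟨l, rfl⟩ : ∃ l, c = l + 1 := ⟨c - 1, by omega⟩
    rw [hpc]
    push_cast
    simp only [Nat.add_sub_cancel, pow_succ]
    ring
  have h1 : (2 : ℤ) ^ (2 * c + 1) ∣ (f - t) ^ 2 := by
    refine (h2p.pow_left).dvd_of_dvd_mul_left ⟨(a : ℤ) * 2 ^ e * (d : ℤ) ^ 2, ?_⟩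
    rw [← heq, show 2 * c + 1 = c + (c + 1) by ring]
    simp only [pow_add]
    ring
  obtain ⟨v, hv⟩ : (2 : ℤ) ^ c ∣ f - t := by
    rw [← Int.pow_dvd_pow_iff two_ne_zero, ← pow_mul, mul_comm c 2]
    exact (pow_dvd_pow 2 (by omega)).trans h1
  rw [hv, mul_pow, ← pow_mul, mul_comm c 2, pow_succ] at h1
  have h2 : (2 : ℤ) ∣ v := Int.prime_two.dvd_of_dvd_pow
    ((mul_dvd_mul_iff_left (pow_ne_zero _ two_ne_zero)).1 h1)
  obtain ⟨u, rfl⟩ := h2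
  have hu : u ≠ 0 := fun h => hne (sub_eq_zero.1 (by rw [hv, h]; ring))
  rw [hv, show (2 : ℤ) ^ c * (2 * u) = 2 ^ (c + 1) * u by ring, abs_mul, abs_pow, abs_two] at hft
  exact absurd hft (not_lt.2 (le_mul_of_one_le_right (pow_nonneg two_pos.le _) (Int.one_le_abs hu)))

end CfsgLib.SmallCofactor
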