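import Cfsg.Agent.Lib.SmallSylow.Apply
import Cfsg.Agent.Lib.SmallSylow.PredTwo.Bounds
import Cfsg.Agent.Lib.ThreeCC.Wreath.PairCount
import Cfsg.Agent.Lib.PrimeDegrees.Solvable

/-!
# Counting products of two conjugates of an involution in the principal block
-/

set_option autoImplicit false

namespace CfsgLib.SmallCofactor

open Cfsg CfsgLib.Blocks CfsgLib.CharTheory CfsgLib.SmallSylow
open scoped ComplexConjugate

set_option linter.unusedVariables false
set_option linter.unusedSectionVars false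
set_option linter.style.haveILetI false

universe u

variable {G : Type u} [Group G] [Fintype G]

/-- An involution whose centralizer has odd index. -/
theorem exists_central_involution {b m : ℕ} (hG : Nat.card G = 2 ^ b * m) (hm : ¬ 2 ∣ m)
    (hb : 1 ≤ b) : ∃ w : G, ∃ d : ℕ, orderOf w = 2 ∧
      Nat.card (Subgroup.centralizer ({w} : Set G)) = 2 ^ b * d ∧
      ¬ 2 ∣ (Subgroup.centralizer ({w} : Set G)).index := by
  classical
  haveI : Fact (Nat.Prime 2) := ⟨Nat.prime_two⟩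
  let S : Sylow 2 G := Classical.arbitrary _
  have hm0 : m ≠ 0 := fun e => hm (e ▸ dvd_zero 2)
  have hS : Nat.card (S : Subgroup G) = 2 ^ b := by
    show Nat.card S = 2 ^ b
    rw [Sylow.card_eq_multiplicity]
    congr 1
    rw [hG, Nat.factorization_mul (by positivity) hm0, Nat.prime_two.factorization_pow,
      Finsupp.add_apply, Finsupp.single_eq_same, Nat.factorization_eq_zero_of_not_dvd hm, add_zero]
  haveI : Nontrivial (S : Subgroup G) := Finite.one_lt_card_iff_nontrivial.1 (by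
    rw [hS]; exact Nat.one_lt_pow (by omega) one_lt_two)
  haveI : Nontrivial (Subgroup.center (S : Subgroup G)) := S.isPGroup'.center_nontrivial
  have h2c : 2 ∣ Nat.card (Subgroup.center (S : Subgroup G)) := by
    obtain ⟨k, hk⟩ := IsPGroup.iff_card.1 (S.isPGroup'.to_subgroup (Subgroup.center (S : Subgroup G)))
    have : 1 < Nat.card (Subgroup.center (S : Subgroup G)) := Finite.one_lt_card
    rw [hk] at this ⊢
    exact dvd_pow_self 2 (by rintro rfl; simp at this)
  obtain ⟨⟨⟨w, hwS⟩, hwc⟩, hwo⟩ := exists_prime_orderOf_dvd_card' 2 h2c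
  rw [← Subgroup.orderOf_coe, ← Subgroup.orderOf_coe] at hwo
  change orderOf w = 2 at hwo
  have hSle : (S : Subgroup G) ≤ Subgroup.centralizer ({w} : Set G) := fun s hs => by
    rw [Subgroup.mem_centralizer_singleton_iff]
    exact congrArg Subtype.val (Subgroup.mem_center_iff.1 hwc ⟨s, hs⟩)
  obtain ⟨d, hd⟩ := hS ▸ Subgroup.card_dvd_of_le hSle
  exact ⟨w, d, hwo, hd, fun h => S.not_dvd_index (h.trans (Subgroup.index_dvd_of_le hSle))⟩

variable {p : ℕ} [Fact p.Prime] {M : Ideal AlgInt} {P : Sylow p G}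
  {X Y : Finset (IrrCharacter G)} {δ : IrrCharacter G → ℤ} {σ : ℤ}

/-- The number of ways to write an element of `P` as a product of two conjugates of `w`. -/
theorem pairs (hM : IsPModular p M) (hP : Nat.card P = p)
    (hC : Subgroup.centralizer ((P : Subgroup G) : Set G) = (P : Subgroup G))
    (D : Data P M X Y δ σ) {w : G} (hw : ¬ p ∣ orderOf w) {η : IrrCharacter G} (hη : η ∈ Y) :
    ∃ a : ℕ, (a : ℂ) * (Nat.card (Subgroup.centralizer ({w} : Set G)) : ℂ) ^ 2 =
      (Nat.card G : ℂ) * (∑ χ ∈ X, (δ χ : ℂ) * (χ : G → ℂ) w ^ 2 / (χ : G → ℂ) 1 +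
        (σ : ℂ) * (η : G → ℂ) w ^ 2 / (η : G → ℂ) 1) := by
  classical
  obtain ⟨y, hy, hy1⟩ := exists_mem_ne P hP
  set A : Finset G := Finset.univ.filter fun x => IsConj w x with hA
  have hAc : ∀ x ∈ A, ∀ h : G, h * x * h⁻¹ ∈ A := fun x hx h => by
    rw [hA, Finset.mem_filter] at hx ⊢
    exact ⟨Finset.mem_univ _, hx.2.trans (isConj_iff.2 ⟨h, rfl⟩)⟩
  have hAs : ∀ ψ : IrrCharacter G, ∑ x ∈ A, (ψ : G → ℂ) x = (A.card : ℂ) * (ψ : G → ℂ) w := by
    intro ψ
    rw [Finset.sum_congr rfl fun x hx => show (ψ : G → ℂ) x = (ψ : G → ℂ) w from ?_, Finset.sum_const,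
      nsmul_eq_mul]
    obtain ⟨c, hc⟩ := isConj_iff.1 (Finset.mem_filter.1 hx).2
    rw [← hc]
    exact isClassFunction_irr ψ.2 w c
  have key := ThreeCC.Wreath.card_pairs_two A A hAc hAc y
  set a := (A.filter fun x => x⁻¹ * y ∈ A).card
  refine ⟨a, ?_⟩
  set T : ℂ := ∑ χ ∈ X, (δ χ : ℂ) * (χ : G → ℂ) w ^ 2 / (χ : G → ℂ) 1 +
    (σ : ℂ) * (η : G → ℂ) w ^ 2 / (η : G → ℂ) 1 with hT
  have hsum : ∑ ψ : IrrCharacter G, (∑ x ∈ A, (ψ : G → ℂ) x) * (∑ x ∈ A, (ψ : G → ℂ) x) *
      conj ((ψ : G → ℂ) y) / (ψ : G → ℂ) 1 = (A.card : ℂ) ^ 2 * T := by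
    rw [← Finset.sum_subset (Finset.subset_univ (X ∪ Y)) fun ψ _ hψ => by
      have hout := (outside hM P hP hC (χ := ψ)
        (fun hin => hψ (Finset.mem_union.2 ((D.union ψ).1 hin)))).1 y hy hy1
      rw [hout, map_zero, mul_zero, zero_div]]
    rw [Finset.sum_union D.disj,
      Finset.sum_congr rfl fun (θ : IrrCharacter G) (hθ : θ ∈ Y) => show
        (∑ x ∈ A, (θ : G → ℂ) x) * (∑ x ∈ A, (θ : G → ℂ) x) * conj ((θ : G → ℂ) y) / (θ : G → ℂ) 1 =
          (A.card : ℂ) ^ 2 * (η : G → ℂ) w ^ 2 / (η : G → ℂ) 1 * conj ((θ : G → ℂ) y) by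
        rw [hAs, D.agree θ hθ η hη w hw,
          D.agree θ hθ η hη 1 (by rw [orderOf_one]; exact (Fact.out : p.Prime).not_dvd_one)]
        ring,
      ← Finset.mul_sum, ← map_sum, D.sumY y hy hy1, map_intCast,
      Finset.sum_congr rfl fun (χ : IrrCharacter G) (hχ : χ ∈ X) => show
        (∑ x ∈ A, (χ : G → ℂ) x) * (∑ x ∈ A, (χ : G → ℂ) x) * conj ((χ : G → ℂ) y) / (χ : G → ℂ) 1 =
          (A.card : ℂ) ^ 2 * ((δ χ : ℂ) * (χ : G → ℂ) w ^ 2 / (χ : G → ℂ) 1) by
        rw [hAs, D.valX χ hχ y hy hy1, map_intCast]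
        ring,
      ← Finset.mul_sum, hT]
    ring
  rw [hsum] at key
  have hk := card_isConj_mul_card_centralizer w
  rw [show Nat.card {x : G // IsConj w x} = A.card from by
    rw [Nat.card_eq_fintype_card, hA, Fintype.card_subtype]] at hk
  have hk' : (A.card : ℂ) * (Nat.card (Subgroup.centralizer ({w} : Set G)) : ℂ) = (Nat.card G : ℂ) := by
    exact_mod_cast hk
  apply mul_left_cancel₀ (show (Nat.card G : ℂ) ≠ 0 from Nat.cast_ne_zero.2 Nat.card_pos.ne')
  linear_combination (Nat.card (Subgroup.centralizer ({w} : Set G)) : ℂ) ^ 2 * key +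
    T * ((A.card : ℂ) * (Nat.card (Subgroup.centralizer ({w} : Set G)) : ℂ) + (Nat.card G : ℂ)) * hk'

/-- The squares of the values at `w` are bounded by the order of its centralizer. -/
theorem column_le (w : G) (v : IrrCharacter G → ℤ)
    (hv : ∀ χ : IrrCharacter G, (χ : G → ℂ) w = (v χ : ℂ)) (S : Finset (IrrCharacter G)) :
    ∑ χ ∈ S, v χ ^ 2 ≤ (Nat.card (Subgroup.centralizer ({w} : Set G)) : ℤ) := by
  classical
  have h := sum_irr_mul_conj w w
  rw [if_pos (IsConj.refl _),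
    Finset.sum_congr rfl fun (χ : IrrCharacter G) _ => show (χ : G → ℂ) w * conj ((χ : G → ℂ) w) = ((v χ ^ 2 : ℤ) : ℂ) by
      rw [hv χ, map_intCast]; push_cast; ring,
    ← Int.cast_sum, ← Int.cast_natCast, Int.cast_inj] at h
  rw [← h]
  exact Finset.sum_le_sum_of_subset_of_nonneg (Finset.subset_univ _) fun _ _ _ => sq_nonneg _

end CfsgLib.SmallCofactor
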