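import Cfsg.Agent.Lib.SmallCofactor.Products
import Cfsg.Agent.Lib.SmallCofactor.Count
import Cfsg.Agent.Lib.SmallCofactor.Arith
import Cfsg.Agent.Lib.PRQPow.Main

/-!
# Simple groups of order `p q ^ b g₀` with `g₀ < p - 1`: the structure of the principal block
-/

set_option autoImplicit false

namespace CfsgLib.SmallCofactor

open Cfsg CfsgLib.Blocks CfsgLib.CharTheory CfsgLib.SmallSylow
open scoped ComplexConjugate

set_option linter.unusedVariables false
set_option linter.unusedSectionVars false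
set_option linter.style.haveILetI false

universe u

variable {G : Type u} [Group G] [Fintype G] [IsSimpleGroup G] {p : ℕ} [Fact p.Prime]
  {M : Ideal AlgInt} {P : Sylow p G} {X Y : Finset (IrrCharacter G)} {δ : IrrCharacter G → ℤ}

theorem dvd_two_pow_mul {d b f : ℕ} (hd : d ∣ 2 ^ b * f) :
    ∃ g k : ℕ, g ∣ f ∧ d = g * 2 ^ k := by
  obtain ⟨x, g, hx, hg, rfl⟩ := exists_dvd_and_dvd_of_dvd_mul hd
  obtain ⟨k, -, rfl⟩ := (Nat.dvd_prime_pow Nat.prime_two).1 hx
  exact ⟨g, k, hg, mul_comm _ _⟩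

theorem deg_cast_eq (hregone : ¬ p ∣ orderOf (1 : G)) (D : Data P M X Y δ 1) {η θ : IrrCharacter G}
    (hη : η ∈ Y) (hθ : θ ∈ Y) : charDegree (θ : G → ℂ) = charDegree (η : G → ℂ) := by
  apply Nat.cast_injective (R := ℂ)
  rw [irr_charDegree_cast, irr_charDegree_cast]
  exact D.agree θ hθ η hη 1 hregone

theorem data_dvd (hP : Nat.card P = p)
    (hC : Subgroup.centralizer ((P : Subgroup G) : Set G) = (P : Subgroup G)) {n : ℕ}
    (hG : Nat.card G = p * n) : inIdx P * Nat.card (Sylow p G) = n := by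
  have h := card_eq_mul P
  rw [hC, hG, mul_assoc, show Nat.card (P : Subgroup G) = p from hP] at h
  exact (Nat.eq_of_mul_eq_mul_left (Fact.out : p.Prime).pos h).symm

/-- Inertial index two. -/
theorem bound_two (hM : IsPModular p M) (hna : ∃ a b : G, a * b ≠ b * a) (hperf : commutator G = ⊤)
    (hP : Nat.card P = p) (hC : Subgroup.centralizer ((P : Subgroup G) : Set G) = (P : Subgroup G))
    (D : Data P M X Y δ 1) (h1X : oneIrr G ∈ X) (hδ1 : δ (oneIrr G) = 1) (he : inIdx P = 2)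
    {f b : ℕ} (hf : f + 2 = p) (hf2 : 2 ≤ f) (hG : Nat.card G = p * (2 ^ b * f))
    (hdY : ∀ η ∈ Y, charDegree (η : G → ℂ) = f) :
    ∃ c, p = 2 ^ c + 1 ∧ Nat.card G < p ^ 3 := by
  classical
  have hp : p.Prime := Fact.out
  have hpodd : p % 2 = 1 := (hp.eq_two_or_odd).resolve_left (by omega)
  have hfodd : f % 2 = 1 := by omega
  have hreg1 : ¬ p ∣ orderOf (1 : G) := by rw [orderOf_one]; exact hp.not_dvd_one
  obtain ⟨χ, hX⟩ := Finset.card_eq_one.1 (show (X.erase (oneIrr G)).card = 1 by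
    rw [Finset.card_erase_of_mem h1X, D.cardX, he])
  have hχX : χ ∈ X := Finset.mem_of_mem_erase (a := oneIrr G) (hX ▸ Finset.mem_singleton_self χ)
  have hXeq : X = insert (oneIrr G) {χ} := by rw [← hX, Finset.insert_erase h1X]
  obtain ⟨η, hη⟩ : Y.Nonempty := by
    rw [← Finset.card_pos]
    rcases Nat.eq_zero_or_pos Y.card with h | h
    · have := D.cardY; rw [h, zero_mul] at this; omega
    · exact h
  have hne : χ ≠ oneIrr G := fun e => by
    have := hX ▸ Finset.mem_singleton_self χ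
    exact Finset.ne_of_mem_erase this e
  have hrel := D.degree_relation hp hη
  rw [← Finset.add_sum_erase _ _ h1X, hX, Finset.sum_singleton, hδ1, charDegree_oneIrr, hdY η hη] at hrel
  push_cast at hrel
  have hδχ : δ χ = -1 := (D.hδ χ hχX).resolve_left fun h => by rw [h] at hrel; omega
  rw [hδχ] at hrel
  have hdχ : charDegree (χ : G → ℂ) = f + 1 := by omega
  have hd : charDegree (χ : G → ℂ) ∣ 2 ^ b * f := by
    rw [← data_dvd hP hC hG]; exact D.dvdX χ hχX
  rw [hdχ] at hd
  have hd2 : f + 1 ∣ 2 ^ b := (Nat.coprime_self_add_left.2 (Nat.coprime_one_left f)).dvd_of_dvd_mul_right hd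
  obtain ⟨c, hcb, hc⟩ := (Nat.dvd_prime_pow Nat.prime_two).1 hd2
  have hpc : p = 2 ^ c + 1 := by omega
  have hc1 : 1 ≤ c := Nat.one_le_iff_ne_zero.2 fun h => by rw [h, pow_zero] at hc; omega
  refine ⟨c, hpc, ?_⟩
  obtain ⟨w, d, hw, hd', -⟩ := exists_central_involution (b := b) (m := p * f)
    (by rw [hG]; ring) (by rw [Nat.prime_two.dvd_mul]; omega) (by omega)
  have hwreg : ¬ p ∣ orderOf w := by
    rw [hw]; intro h; have := Nat.le_of_dvd two_pos h; omega
  have hw1 : w ≠ 1 := fun h => by rw [h, orderOf_one] at hw; norm_num at hw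
  obtain ⟨t, ht⟩ := PredTwo.involution_value (isCharacter_of_irr η.2) hw
  have hχ1 : oneIrr G ≠ χ := hne.symm
  have hχw : (χ : G → ℂ) w = 1 + t := by
    have h := D.relation η hη w hwreg
    rw [hXeq, Finset.sum_insert (by simpa using hχ1), Finset.sum_singleton, hδ1, hδχ, ht] at h
    have h1 : (oneIrr G : G → ℂ) w = 1 := rfl
    rw [h1] at h
    push_cast at h
    linear_combination -h
  have hη1 : η ≠ oneIrr G := fun e => Finset.disjoint_left.1 D.disj h1X (e ▸ hη)
  have hnet : (f : ℤ) ≠ t := fun h => hw1 (PRQPow.irr_faithful η hη1 w (by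
    rw [ht, ← h, ← irr_charDegree_cast, hdY η hη]; push_cast; rfl))
  have hbd : |(t : ℝ)| ≤ f := by
    have h := norm_char_le (isCharacter_of_irr η.2) w
    rwa [ht, ← irr_charDegree_cast, hdY η hη, Complex.norm_intCast, Complex.norm_natCast] at h
  have hbd' : |t| ≤ (f : ℤ) := by exact_mod_cast hbd
  have hlt : |(f : ℤ) - t| < 2 ^ (c + 1) := by
    have h1 : ((2 : ℤ) ^ (c + 1)) = 2 * ((f : ℤ) + 1) := by
      rw [pow_succ', show (2 : ℤ) ^ c = ((2 ^ c : ℕ) : ℤ) by push_cast; rfl, ← hc]; push_cast; rfl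
    rw [h1, abs_lt]
    rw [abs_le] at hbd'
    constructor <;> linarith
  obtain ⟨a, ha⟩ := pairs hM hP hC D hwreg hη
  rw [hXeq, Finset.sum_insert (by simpa using hχ1), Finset.sum_singleton, hδ1, hδχ, hχw, ht,
    show (oneIrr G : G → ℂ) w = 1 from rfl, show (oneIrr G : G → ℂ) 1 = 1 from rfl,
    ← irr_charDegree_cast χ, ← irr_charDegree_cast η, hdY η hη, hdχ, hd', hG] at ha
  have hfc : (2 : ℂ) ^ c = (f : ℂ) + 1 := by
    rw [show (2 : ℂ) ^ c = ((2 ^ c : ℕ) : ℂ) by push_cast; rfl, ← hc]; push_cast; rfl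
  have hf0 : (f : ℂ) ≠ 0 := Nat.cast_ne_zero.2 (by omega)
  have hf10 : (f : ℂ) + 1 ≠ 0 := by exact_mod_cast (Nat.succ_ne_zero f)
  push_cast at ha
  field_simp at ha
  have hb : b ≤ c := by
    refine bound_of_square (f : ℤ) t hpc hc1 hnet hlt (a := a) (d := d) ?_
    have h2 : ((2 : ℂ) ^ b) ≠ 0 := pow_ne_zero _ two_ne_zero
    have e : ((a : ℂ) * 2 ^ b * (d : ℂ) ^ 2 * 2 ^ c) = (p : ℂ) * ((f : ℂ) - t) ^ 2 := by
      rw [hfc]
      linear_combination ha
    exact_mod_cast e
  rw [hG]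
  have h1 : 2 ^ b < p := by
    have := Nat.pow_le_pow_right two_pos hb
    omega
  have h2 : 2 ^ b * f < p * p := Nat.mul_lt_mul'' h1 (by omega)
  calc p * (2 ^ b * f) < p * (p * p) := Nat.mul_lt_mul_of_pos_left h2 hp.pos
    _ = p ^ 3 := by ring

set_option maxHeartbeats 1000000 in
/-- Inertial index `(p - 1) / 2`, with exceptional degree `(p + 1) / 2`. -/
theorem bound_plus (hM : IsPModular p M) (hna : ∃ a b : G, a * b ≠ b * a) (hperf : commutator G = ⊤)
    (hP : Nat.card P = p) (hC : Subgroup.centralizer ((P : Subgroup G) : Set G) = (P : Subgroup G))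
    (D : Data P M X Y δ 1) (h1X : oneIrr G ∈ X) (hδ1 : δ (oneIrr G) = 1)
    {i f b : ℕ} (hi : 1 ≤ i) (he : inIdx P = 2 ^ i) (hpi : p = 2 ^ (i + 1) + 1) (hf : f = 2 ^ i + 1)
    (hG : Nat.card G = p * (2 ^ b * f)) (hdY : ∀ η ∈ Y, charDegree (η : G → ℂ) = f) :
    Nat.card G < p ^ 3 := by
  classical
  have hp : p.Prime := Fact.out
  obtain ⟨j, rfl⟩ : ∃ j, i = j + 1 := ⟨i - 1, by omega⟩
  set K := 2 ^ j with hKdef
  have hK : 1 ≤ K := Nat.one_le_two_pow
  have hi2 : 2 ^ (j + 1) = 2 * K := pow_succ' 2 j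
  have hi4 : 2 ^ (j + 1 + 1) = 4 * K := by rw [pow_succ', hi2]; ring
  have hfK : f = 2 * K + 1 := by omega
  have hpK : p = 4 * K + 1 := by omega
  have hpz : (p : ℤ) = (2 : ℤ) ^ (j + 1 + 1) + 1 := by rw [hpi]; push_cast; rfl
  have hfodd : f % 2 = 1 := by omega
  have hdeg : ∀ χ ∈ X, charDegree (χ : G → ℂ) ∣ 2 ^ b * f := fun χ hχ => by
    rw [← data_dvd hP hC hG]; exact D.dvdX χ hχ
  have hsmall : ∀ χ ∈ X, χ ≠ oneIrr G → charDegree (χ : G → ℂ) ≤ (2 * K + 1) ^ 2 →
      (charDegree (χ : G → ℂ) = 4 * K + 2 ∧ δ χ = 1) ∨ (charDegree (χ : G → ℂ) = 4 * K ∧ δ χ = -1) := by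
    intro χ hχ hne hle
    obtain ⟨g, k, hg, hgk⟩ := dvd_two_pow_mul (hdeg χ hχ)
    have hgodd : g % 2 = 1 := by
      obtain ⟨u, hu⟩ := hg
      rcases Nat.mod_two_eq_zero_or_one g with h | h
      · rw [hu, Nat.mul_mod, h] at hfodd; simp at hfodd
      · exact h
    have hgf : g ≤ f := Nat.le_of_dvd (by omega) hg
    have hmod := (D.degX χ hχ).symm
    rw [Int.modEq_iff_dvd, hgk, hpz] at hmod
    push_cast at hmod
    rcases degree_le_sq (i := j + 1) (by omega) hgodd (hf ▸ hgf) (k := k)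
      (by rw [← hgk, hi2]; exact hle) (D.hδ χ hχ) hmod with h | ⟨h, h'⟩ | ⟨h, h'⟩
    · exact absurd (eq_one_of_degree_one hperf (hgk.trans h)) hne
    · left; exact ⟨by rw [hgk, h, hi2]; ring, h'⟩
    · right; exact ⟨by rw [hgk, h, hi4], h'⟩
  -- the number of characters of degree `p + 1`
  have hother : ∀ χ ∈ X, χ ≠ oneIrr G → charDegree (χ : G → ℂ) ≠ 4 * K + 2 →
      4 * K ∣ charDegree (χ : G → ℂ) := by
    intro χ hχ hne hne2
    obtain ⟨g, k, hg, hgk⟩ := dvd_two_pow_mul (hdeg χ hχ)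
    have hgodd : g % 2 = 1 := by
      obtain ⟨u, hu⟩ := hg
      rcases Nat.mod_two_eq_zero_or_one g with h | h
      · rw [hu, Nat.mul_mod, h] at hfodd; simp at hfodd
      · exact h
    have hgf : g ≤ f := Nat.le_of_dvd (by omega) hg
    rcases le_or_gt k (j + 1) with hk | hk
    · exfalso
      have hmod := (D.degX χ hχ).symm
      rw [Int.modEq_iff_dvd, hgk, hpz] at hmod
      push_cast at hmod
      obtain ⟨-, ⟨rfl, rfl⟩ | ⟨rfl, rfl⟩⟩ :=
        small_degree (i := j + 1) (by omega) hgodd (hf ▸ hgf) hk (D.hδ χ hχ) hmod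
      · exact hne (eq_one_of_degree_one hperf (by rw [hgk]; simp))
      · exact hne2 (by rw [hgk, hi2]; ring)
    · rw [hgk, ← hi4]
      exact (pow_dvd_pow 2 (by omega)).trans (dvd_mul_left _ _)
  obtain ⟨θ, θ', hne, hYeq⟩ := Finset.card_eq_two.1 (show Y.card = 2 by
    have h := D.cardY
    rw [he, hi2] at h
    have : Y.card * (2 * K) = 2 * (2 * K) := by omega
    exact Nat.eq_of_mul_eq_mul_right (by omega) this)
  have hθ : θ ∈ Y := hYeq ▸ Finset.mem_insert_self _ _
  have hNcount : (plus X K).card + 1 = K := by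
    have hrel := D.degree_relation hp hθ
    rw [← Finset.add_sum_erase _ _ h1X, hδ1, charDegree_oneIrr, hdY θ hθ,
      ← Finset.sum_filter_add_sum_filter_not (X.erase (oneIrr G))
        (fun χ : IrrCharacter G => charDegree (χ : G → ℂ) = 4 * K + 2)] at hrel
    have hfil : (X.erase (oneIrr G)).filter (fun χ : IrrCharacter G => charDegree (χ : G → ℂ) = 4 * K + 2) = plus X K := by
      ext χ
      simp only [plus, Finset.mem_filter, Finset.mem_erase]
      refine ⟨fun h => ⟨h.1.2, h.2⟩, fun h => ⟨⟨?_, h.1⟩, h.2⟩⟩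
      rintro rfl
      rw [charDegree_oneIrr] at h
      omega
    rw [hfil, Finset.sum_congr rfl fun χ (hχ : χ ∈ plus X K) => show
      δ χ * (charDegree (χ : G → ℂ) : ℤ) = ((4 * K + 2 : ℕ) : ℤ) by
        obtain ⟨hX, hd⟩ := Finset.mem_filter.1 hχ
        have hne' : χ ≠ oneIrr G := fun e => by rw [e, charDegree_oneIrr] at hd; omega
        rcases hsmall χ hX hne' (by rw [hd]; nlinarith) with ⟨-, h⟩ | ⟨h, -⟩
        · rw [h, hd, one_mul]
        · omega,
      Finset.sum_const, nsmul_eq_mul] at hrel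
    obtain ⟨R, hR⟩ : ((4 * K : ℕ) : ℤ) ∣ ∑ χ ∈ (X.erase (oneIrr G)).filter
        (fun χ : IrrCharacter G => ¬ charDegree (χ : G → ℂ) = 4 * K + 2), δ χ * (charDegree (χ : G → ℂ) : ℤ) :=
      Finset.dvd_sum fun χ hχ => by
        obtain ⟨h1, h2⟩ := Finset.mem_filter.1 hχ
        exact Dvd.dvd.mul_left (Int.natCast_dvd_natCast.2
          (hother χ (Finset.mem_of_mem_erase h1) (Finset.ne_of_mem_erase h1) h2)) _
    rw [hR, hfK] at hrel
    push_cast at hrel
    have hle : (plus X K).card + 1 ≤ 2 * K := by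
      have h := Finset.card_le_card (show plus X K ⊆ X.erase (oneIrr G) from hfil ▸ Finset.filter_subset _ _)
      rw [Finset.card_erase_of_mem h1X, D.cardX, he, hi2] at h
      omega
    have key : (2 * (K : ℤ)) * (-(R + (plus X K).card)) = 1 + (K : ℤ) + (plus X K).card := by
      linear_combination (-(1 : ℤ)) * ((by linarith :
        (1 + (K : ℤ) + (plus X K).card) + 2 * (K : ℤ) * (R + (plus X K).card) = 0))
    generalize hN : (plus X K).card = N at hle key ⊢
    have hc : -(R + (N : ℤ)) = 1 := by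
      have l1 : 0 < -(R + (N : ℤ)) := by
        by_contra h
        nlinarith [not_lt.1 h]
      have l2 : -(R + (N : ℤ)) < 2 := by
        by_contra h
        nlinarith [not_lt.1 h]
      omega
    rw [hc, mul_one] at key
    omega
  have hmid : Mid P M X Y δ K θ θ' :=
    { hM := hM, hPc := hP, hC := hC, D := D, hp := hpK
      hY := fun η => by rw [hYeq]; simp
      hne := hne
      degY := fun η hη => by rw [hdY η hη, hfK]
      h1 := h1X, hδ1 := hδ1
      triX := fun χ hχ hχ1 => by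
        rcases le_or_gt (charDegree (χ : G → ℂ)) ((2 * K + 1) ^ 2) with h | h
        · rcases hsmall χ hχ hχ1 h with h' | h'
          · exact Or.inl h'
          · exact Or.inr (Or.inl h')
        · exact Or.inr (Or.inr h)
      card_plus := fun A hA => by
        have h := Finset.card_le_card (show A ⊆ plus X K from fun χ hχ => Finset.mem_filter.2 (hA χ hχ))
        omega
      hinv := fun x hx => by
        haveI : Fact (Nat.Prime 2) := ⟨Nat.prime_two⟩
        obtain ⟨H, L⟩ := exists_local P hP hC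
        obtain ⟨⟨h, hh⟩, hho⟩ := exists_prime_orderOf_dvd_card' (G := H) 2
          (by rw [L.card, he, hi2]; exact dvd_mul_right _ _)
        rw [← Subgroup.orderOf_coe] at hho
        have hh2 : h * h = 1 := by rw [← pow_two, ← hho]; exact pow_orderOf_eq_one h
        have hhi : h⁻¹ = h := inv_eq_of_mul_eq_one_right hh2
        have hh1 : h ≠ 1 := fun e => by
          rw [show orderOf (h : G) = 1 by rw [e, orderOf_one]] at hho; norm_num at hho
        refine ⟨h, ?_⟩
        rw [hhi]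
        have hm : h * x * h ∈ (P : Subgroup G) := by
          have := (Subgroup.mem_normalizer_iff.1 (L.le hh) x).1 hx
          rwa [hhi] at this
        have hc : x * (h * x * h) = h * x * h * x := (DefectOne.setup_sylow P hP).comm hx hm
        have hfix : x * (h * x * h) * h = h * (x * (h * x * h)) := by
          calc x * (h * x * h) * h = x * h * x * (h * h) := by group
            _ = (h * h) * x * h * x := by rw [hh2, mul_one, one_mul]
            _ = h * (h * x * h * x) := by group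
            _ = h * (x * (h * x * h)) := by rw [hc]
        exact (inv_eq_of_mul_eq_one_right (L.fpf h hh hh1 _ (mul_mem hx hm) hfix)).symm }
  have hdY' : charDegree (θ : G → ℂ) = f := hdY θ hθ
  have hmc := hmid.card_minus
  -- all characters of the block are known
  have hsub : insert (oneIrr G) (plus X K ∪ minus X K) = X := by
    refine Finset.eq_of_subset_of_card_le (fun χ hχ => ?_) ?_
    · rcases Finset.mem_insert.1 hχ with rfl | h
      · exact h1X
      · rcases Finset.mem_union.1 h with h | h <;> exact (Finset.mem_filter.1 h).1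
    · rw [Finset.card_insert_of_notMem, Finset.card_union_of_disjoint
        (show Disjoint (plus X K) (minus X K) from Finset.disjoint_filter.2 fun χ _ h h' => by omega),
        D.cardX, he, hi2]
      · omega
      · intro h
        rcases Finset.mem_union.1 h with h | h
        · exact hmid.ne_one_of_deg (Or.inl (Finset.mem_filter.1 h).2) rfl
        · exact hmid.ne_one_of_deg (Or.inr (Finset.mem_filter.1 h).2) rfl
  -- the involution
  have hdvd : inIdx P ∣ 2 ^ b * f := by rw [← data_dvd hP hC hG]; exact dvd_mul_right _ _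
  have hb1 : 1 ≤ b := by
    by_contra hb
    rw [show b = 0 by omega, pow_zero, one_mul, he, hi2] at hdvd
    obtain ⟨u, hu⟩ := hdvd
    rw [hu, Nat.mul_assoc] at hfodd
    omega
  have hpodd : p % 2 = 1 := by omega
  obtain ⟨w, d, hw, hd', hidx⟩ := exists_central_involution (b := b) (m := p * f)
    (by rw [hG]; ring) (by rw [Nat.prime_two.dvd_mul]; omega) hb1
  have hwreg : ¬ p ∣ orderOf w := by
    rw [hw]; intro h; have := Nat.le_of_dvd two_pos h; omega
  have hw1 : w ≠ 1 := fun h => by rw [h, orderOf_one] at hw; norm_num at hw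
  choose v hv using fun χ : IrrCharacter G => PredTwo.involution_value (isCharacter_of_irr χ.2) hw
  have hmw : ∀ χ ∈ minus X K, (χ : G → ℂ) w = 0 := fun χ hχ => by
    refine PrimeDegrees.vanish_of_coprime hna χ (fun h => ?_) hw1 ?_
    · exact hmid.ne_one_of_deg (Or.inr (Finset.mem_filter.1 hχ).2) (Subtype.ext h)
    · rw [(Finset.mem_filter.1 hχ).2, ← hi4]
      exact Nat.Coprime.pow_left _ ((Nat.prime_two.coprime_iff_not_dvd).2 hidx)
  have hsumT : ∑ χ ∈ X, (δ χ : ℂ) * (χ : G → ℂ) w ^ 2 / (χ : G → ℂ) 1 =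
      1 + (∑ χ ∈ plus X K, (v χ : ℂ) ^ 2) / (2 * (f : ℂ)) := by
    conv_lhs => rw [← hsub]
    rw [Finset.sum_insert (fun h => by
        rcases Finset.mem_union.1 h with h | h
        · exact hmid.ne_one_of_deg (Or.inl (Finset.mem_filter.1 h).2) rfl
        · exact hmid.ne_one_of_deg (Or.inr (Finset.mem_filter.1 h).2) rfl),
      Finset.sum_union (show Disjoint (plus X K) (minus X K) from
        Finset.disjoint_filter.2 fun χ _ h h' => by omega),
      Finset.sum_eq_zero (s := minus X K) fun χ hχ => by rw [hmw χ hχ]; simp,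
      add_zero, Finset.sum_div, hδ1, show (oneIrr G : G → ℂ) w = 1 from rfl,
      show (oneIrr G : G → ℂ) 1 = 1 from rfl]
    refine congrArg₂ (· + ·) (by norm_num) (Finset.sum_congr rfl fun χ hχ => ?_)
    obtain ⟨hX, hd⟩ := Finset.mem_filter.1 hχ
    have hδχ : δ χ = 1 := by
      rcases hmid.triX χ hX (hmid.ne_one_of_deg (Or.inl hd)) with ⟨-, h⟩ | ⟨h, -⟩ | h
      · exact h
      · omega
      · exfalso; nlinarith
    rw [hδχ, hv χ, ← irr_charDegree_cast, hd, hfK]
    push_cast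
    ring
  obtain ⟨a, ha⟩ := pairs hM hP hC D hwreg hθ
  rw [hsumT, hv θ, ← irr_charDegree_cast θ, hdY', hd', hG] at ha
  have hf0 : (f : ℂ) ≠ 0 := Nat.cast_ne_zero.2 (by omega)
  push_cast at ha
  field_simp at ha
  set SA : ℤ := ∑ χ ∈ plus X K, v χ ^ 2 with hSA
  have hcol : 1 + SA + 2 * v θ ^ 2 ≤ ((2 ^ b * d : ℕ) : ℤ) := by
    rw [← hd']
    refine le_trans (le_of_eq ?_) (column_le w v hv (insert (oneIrr G) (plus X K ∪ Y)))
    have hdisj : Disjoint (plus X K) Y := D.disj.mono_left (Finset.filter_subset _ _)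
    have hv1 : v (oneIrr G) = 1 := by
      have h := hv (oneIrr G)
      rw [show (oneIrr G : G → ℂ) w = 1 from rfl] at h
      exact_mod_cast h.symm
    have hv' : v θ' = v θ := by
      have h := D.agree θ' (hYeq ▸ Finset.mem_insert_of_mem (Finset.mem_singleton_self θ')) θ hθ w hwreg
      rw [hv, hv] at h
      exact_mod_cast h
    rw [Finset.sum_insert (fun h => by
        rcases Finset.mem_union.1 h with h | h
        · exact hmid.ne_one_of_deg (Or.inl (Finset.mem_filter.1 h).2) rfl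
        · exact Finset.disjoint_left.1 D.disj h1X h),
      Finset.sum_union hdisj, hYeq, Finset.sum_pair hne, hv1, hv', hSA]
    ring
  have hNb : (2 : ℤ) ^ b ≤ (p : ℤ) := by
    have hd1 : 1 ≤ d := by
      rcases Nat.eq_zero_or_pos d with h | h
      · rw [h, mul_zero] at hd'
        exact absurd hd' (Nat.card_pos).ne'
      · exact h
    have hSA0 : 0 ≤ SA := Finset.sum_nonneg fun χ _ => sq_nonneg _
    refine bound_of_count (a := a) (R := 2 * (f : ℤ) + SA + 2 * v θ ^ 2) hp hd1 (by positivity) ?_ ?_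
      (by nlinarith [sq_nonneg (v θ)]) ?_
    · intro h
      rw [← pow_succ'] at h
      have h2 : p ∣ 2 ^ (b + 1) := by exact_mod_cast h
      have := Nat.le_of_dvd two_pos (hp.dvd_of_dvd_pow h2)
      omega
    · have e : (2 * (a : ℂ) * 2 ^ b * (d : ℂ) ^ 2) =
          (p : ℂ) * (2 * (f : ℂ) + ((SA : ℤ) : ℂ) + 2 * (v θ : ℂ) ^ 2) := by
        rw [hSA]
        push_cast
        linear_combination ha
      exact_mod_cast e
    · push_cast at hcol
      have hp2 : (p : ℤ) + 1 = 2 * (f : ℤ) := by rw [hpK, hfK]; push_cast; ring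
      linarith
  have hNb' : 2 ^ b ≤ p := by exact_mod_cast hNb
  rw [hG]
  calc p * (2 ^ b * f) < p * (p * p) := Nat.mul_lt_mul_of_pos_left
        (lt_of_le_of_lt (Nat.mul_le_mul_right f hNb') (Nat.mul_lt_mul_of_pos_left (by omega) hp.pos)) hp.pos
    _ = p ^ 3 := by ring

/-- The three possible outcomes. -/
def Outcome (G : Type u) [Group G] (p : ℕ) : Prop :=
  (∃ m : ℕ, p = 2 ^ m - 1 ∧ Nonempty (G ≃* Matrix.ProjectiveSpecialLinearGroup (Fin 2) (ZMod p))) ∨
    ∃ m : ℕ, p = 2 ^ m + 1 ∧ Nat.card G < p ^ 3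

theorem case_half (hna : ∃ a b : G, a * b ≠ b * a) {q b f : ℕ} (hq : q.Prime)
    (hG : Nat.card G = p * (q ^ b * f))
    (hnn : ∀ H : Subgroup G, H.Normal → Nat.card H ≠ p) (hdiv : p ∣ Nat.card G)
    (hsq : ¬ p ^ 2 ∣ Nat.card G) (η : IrrCharacter G)
    (hfaith : ∀ g : G, (η : G → ℂ) g = (η : G → ℂ) 1 → g = 1)
    (hf : charDegree (η : G → ℂ) = f) (hf2 : 2 ≤ f) (hpr : p = 2 * f + 1) : Outcome G p := by
  have hp : p.Prime := Fact.out
  obtain ⟨e⟩ := Cfsg.Agent.S4504.result p hp hdiv hsq hnn η (isCharacter_of_irr η.2) hfaith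
    (by rw [hf, hpr])
  haveI : NeZero p := ⟨hp.ne_zero⟩
  let e0 : G ≃* G ⧸ Subgroup.center G :=
    ((QuotientGroup.quotientMulEquivOfEq (PrimeDegrees.center_bot hna)).trans
      QuotientGroup.quotientBot).symm
  let e' := e0.trans e
  have h5 := SLCard.gcd_mul_card_PSL (F := ZMod p) (n := 2) (by norm_num)
  rw [SLCard.card_SL_two, ZMod.card, ← Nat.card_congr e'.toEquiv, hG] at h5
  have hg : Nat.gcd 2 (p - 1) = 2 := Nat.gcd_eq_left (by rw [hpr]; exact ⟨f, by omega⟩)
  rw [hg, show p ^ 2 - 1 = 2 * f * (p + 1) from by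
    rw [hpr, Nat.sub_eq_iff_eq_add (Nat.one_le_pow _ _ (by omega))]; ring] at h5
  have hqb : q ^ b = p + 1 := by
    apply Nat.eq_of_mul_eq_mul_left (show 0 < 2 * p * f from
      Nat.mul_pos (Nat.mul_pos two_pos hp.pos) (by omega))
    linarith
  have hq2 : q = 2 := by
    have h2 : 2 ∣ q ^ b := ⟨f + 1, by rw [hqb, hpr]; ring⟩
    exact ((Nat.prime_dvd_prime_iff_eq Nat.prime_two hq).1 (Nat.prime_two.dvd_of_dvd_pow h2)).symm
  subst hq2
  exact Or.inl ⟨b, by omega, ⟨e'⟩⟩

theorem main (hnc : ¬ IsCyclic G) {q b g₀ : ℕ} (hq : q.Prime) (hpq : p ≠ q)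
    (hG : Nat.card G = p * q ^ b * g₀) (hg : g₀ < p - 1) : Outcome G p := by
  classical
  have hp : p.Prime := Fact.out
  have hna : ∃ a b : G, a * b ≠ b * a := by
    by_contra h
    push Not at h
    exact hnc (by
      letI : CommGroup G := { (inferInstance : Group G) with mul_comm := h }
      infer_instance)
  have hperf : commutator G = ⊤ :=
    (Subgroup.Normal.eq_bot_or_eq_top (inferInstance : (commutator G).Normal)).resolve_left fun h => by
      obtain ⟨a, b, hab⟩ := hna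
      exact hab (commutatorElement_eq_one_iff_mul_comm.1 (by
        rw [← Subgroup.mem_bot, ← h]
        exact Subgroup.commutator_mem_commutator (Subgroup.mem_top a) (Subgroup.mem_top b)))
  have hg0 : 0 < g₀ := Nat.pos_of_ne_zero fun h => Nat.card_pos.ne' (by rw [hG, h, mul_zero])
  have hG' : Nat.card G = p * (q ^ b * g₀) := by rw [hG, mul_assoc]
  have hpm : ¬ p ∣ q ^ b * g₀ := fun h => by
    rcases hp.dvd_mul.1 h with h | h
    · exact hpq ((Nat.prime_dvd_prime_iff_eq hp hq).1 (hp.dvd_of_dvd_pow h))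
    · have := Nat.le_of_dvd hg0 h; omega
  let P : Sylow p G := Classical.arbitrary _
  have hP : Nat.card P = p := PRQPow.card_sylow_prime hG' hpm P
  obtain ⟨M, hM⟩ := exists_pModular hp
  have hp2 := prime_ne_two hperf P hP
  obtain ⟨X, Y, δ, σ, D⟩ := exists_data hM hp2 P hP
  have he2 := two_le_inIdx hperf P hP
  have hed := D.inIdx_dvd
  have hep : inIdx P < p := by
    have := Nat.le_of_dvd (by omega) hed
    omega
  have hdvd : ∀ d : ℕ, d ∣ inIdx P * Nat.card (Sylow p G) → d ∣ g₀ * q ^ b := by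
    intro d hd
    obtain ⟨c, hc⟩ : p ∣ Nat.card (Subgroup.centralizer ((P : Subgroup G) : Set G)) := by
      have h := Subgroup.card_dvd_of_le (DefectOne.setup_sylow P hP).le_cent
      rwa [show Nat.card (P : Subgroup G) = p from hP] at h
    have h1 := card_eq_mul P
    rw [hG', hc, mul_assoc (p * c), mul_assoc p c] at h1
    rw [mul_comm g₀, Nat.eq_of_mul_eq_mul_left hp.pos h1]
    exact hd.mul_left c
  obtain ⟨η, hη⟩ : Y.Nonempty := by
    rw [← Finset.card_pos]
    rcases Nat.eq_zero_or_pos Y.card with h | h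
    · have := D.cardY; rw [h, zero_mul] at this; omega
    · exact h
  have hrel := D.degree_relation hp hη
  have hnn : ∀ H : Subgroup G, H.Normal → Nat.card H ≠ p := by
    intro H hH hc
    rcases hH.eq_bot_or_eq_top with h | h
    · rw [h, Subgroup.card_bot] at hc; omega
    · rw [h, Subgroup.card_top] at hc; exact hnc (isCyclic_of_prime_card hc)
  have hdiv : p ∣ Nat.card G := hG' ▸ dvd_mul_right _ _
  have hsq : ¬ p ^ 2 ∣ Nat.card G := fun h => hpm (by
    rw [hG', sq] at h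
    exact Nat.dvd_of_mul_dvd_mul_left hp.pos h)
  have hgt : ∀ χ : IrrCharacter G, χ ≠ oneIrr G → charDegree (χ : G → ℂ) ≠ 1 := fun χ hχ h =>
    hχ (eq_one_of_degree_one hperf h)
  have hreg1 : ¬ p ∣ orderOf (1 : G) := by rw [orderOf_one]; exact hp.not_dvd_one
  have hq1 : ¬ (q : ℤ) ∣ 1 := fun h => by
    have := Int.le_of_dvd one_pos h
    have := hq.two_le
    omega
  -- a nontrivial character of degree prime to `q`
  have hex : ∃ χ : IrrCharacter G, (χ ∈ X ∨ χ = η) ∧ χ ≠ oneIrr G ∧ ¬ q ∣ charDegree (χ : G → ℂ) := by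
    by_contra hno
    push Not at hno
    rcases D.one_mem hM with h1 | h1
    · have hne : η ≠ oneIrr G := fun e => Finset.disjoint_left.1 D.disj h1 (e ▸ hη)
      rw [← Finset.add_sum_erase _ _ h1, charDegree_oneIrr] at hrel
      have hs : (q : ℤ) ∣ ∑ χ ∈ X.erase (oneIrr G), δ χ * (charDegree (χ : G → ℂ) : ℤ) :=
        Finset.dvd_sum fun χ hχ => Dvd.dvd.mul_left (Int.natCast_dvd_natCast.2
          (hno χ (Or.inl (Finset.mem_of_mem_erase hχ)) (Finset.ne_of_mem_erase hχ))) _
      have hη' : (q : ℤ) ∣ σ * (charDegree (η : G → ℂ) : ℤ) :=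
        Dvd.dvd.mul_left (Int.natCast_dvd_natCast.2 (hno η (Or.inr rfl) hne)) _
      push_cast at hrel
      have hd : (q : ℤ) ∣ δ (oneIrr G) := by
        have := (hs.add hη').neg_right
        rwa [show -(∑ χ ∈ X.erase (oneIrr G), δ χ * (charDegree (χ : G → ℂ) : ℤ) +
          σ * (charDegree (η : G → ℂ) : ℤ)) = δ (oneIrr G) by linarith] at this
      rcases D.hδ _ h1 with h | h <;> rw [h] at hd
      · exact hq1 hd
      · exact hq1 (dvd_neg.1 hd)
    · have hηdeg : charDegree (η : G → ℂ) = 1 := by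
        have h2 := D.agree η hη _ h1 1 hreg1
        rw [← irr_charDegree_cast, ← irr_charDegree_cast, charDegree_oneIrr, Nat.cast_inj] at h2
        exact h2
      have hs : (q : ℤ) ∣ ∑ χ ∈ X, δ χ * (charDegree (χ : G → ℂ) : ℤ) :=
        Finset.dvd_sum fun χ hχ => Dvd.dvd.mul_left (Int.natCast_dvd_natCast.2
          (hno χ (Or.inl hχ) fun e => Finset.disjoint_left.1 D.disj hχ (e ▸ h1))) _
      rw [hηdeg] at hrel
      push_cast at hrel
      rw [show ∑ χ ∈ X, δ χ * (charDegree (χ : G → ℂ) : ℤ) = -σ by linarith] at hs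
      rcases D.hσ with h | h <;> rw [h] at hs
      · exact hq1 (dvd_neg.1 hs)
      · exact hq1 (by simpa using hs)
  -- a nontrivial character of the block of degree prime to `q` is exceptional
  have hXq : ∀ χ ∈ X, χ ≠ oneIrr G → q ∣ charDegree (χ : G → ℂ) := by
    intro χ hχ hne
    by_contra hnd
    have h1 := PRQPow.degree_dvd_of_not_dvd hq (hdvd _ (D.dvdX χ hχ)) hnd
    have h2 := Nat.le_of_dvd hg0 h1
    have hpos : 2 ≤ charDegree (χ : G → ℂ) := by
      have := hgt χ hne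
      have : charDegree (χ : G → ℂ) ≠ 0 := fun h =>
        irr_one_ne_zero χ (by rw [← irr_charDegree_cast, h, Nat.cast_zero])
      omega
    have hm := D.degX χ hχ
    rw [Int.modEq_iff_dvd] at hm
    have h3 : δ χ - (charDegree (χ : G → ℂ) : ℤ) = 0 ∨
        (p : ℤ) ≤ |δ χ - (charDegree (χ : G → ℂ) : ℤ)| := by
      rcases eq_or_ne (δ χ - (charDegree (χ : G → ℂ) : ℤ)) 0 with h0 | h0
      · exact Or.inl h0
      · exact Or.inr (Int.le_of_dvd (abs_pos.2 h0) ((dvd_abs _ _).2 hm))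
    rcases D.hδ χ hχ with hδ | hδ <;> rw [hδ] at h3 <;> rcases h3 with h0 | h0
    · omega
    · rw [abs_of_nonpos (by omega)] at h0; omega
    · omega
    · rw [abs_of_nonpos (by omega)] at h0; omega
  obtain ⟨χ₀, hχ₀, hχ₀1, hχ₀q⟩ := hex
  have hχ₀η : χ₀ = η := hχ₀.resolve_left fun h => hχ₀q (hXq _ h hχ₀1)
  subst hχ₀η
  set f := charDegree (χ₀ : G → ℂ) with hfdef
  have hfg : f ∣ g₀ := PRQPow.degree_dvd_of_not_dvd hq (hdvd _ (D.dvdY χ₀ hη)) hχ₀q
  have hfle := Nat.le_of_dvd hg0 hfg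
  have hf2 : 2 ≤ f := by
    have h1 : f ≠ 1 := hgt χ₀ hχ₀1
    have h0 : f ≠ 0 := fun h => irr_one_ne_zero χ₀ (by rw [← irr_charDegree_cast, ← hfdef, h, Nat.cast_zero])
    omega
  have hfaith := PRQPow.irr_faithful χ₀ hχ₀1
  have hp2f : p ≤ 2 * f + 1 :=
    Cfsg.Agent.S4503.result p hp hdiv hsq hnn _ (isCharacter_of_irr χ₀.2) hfaith
  have hgf : g₀ = f := by
    obtain ⟨k, hk⟩ := hfg
    rcases (by omega : k = 0 ∨ k = 1 ∨ 2 ≤ k) with rfl | rfl | hk2
    · omega
    · omega
    · have := Nat.mul_le_mul_left f hk2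
      omega
  rw [hgf] at hG' hdvd
  have h1X : oneIrr G ∈ X := (D.one_mem hM).resolve_right fun h1 => by
    have h2 := D.agree _ hη _ h1 1 hreg1
    rw [← irr_charDegree_cast, ← irr_charDegree_cast, charDegree_oneIrr, Nat.cast_inj] at h2
    omega
  have hδ1 : δ (oneIrr G) = 1 := by
    obtain ⟨x₀, hx₀, hx₀1⟩ := exists_mem_ne P hP
    have h := D.valX _ h1X x₀ hx₀ hx₀1
    have h' : ((δ (oneIrr G) : ℤ) : ℂ) = ((1 : ℤ) : ℂ) := by rw [← h, Int.cast_one]; rfl
    exact_mod_cast h'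
  have hdY : ∀ θ ∈ Y, charDegree (θ : G → ℂ) = f := fun θ hθ => by
    have h2 := D.agree θ hθ _ hη 1 hreg1
    rw [← irr_charDegree_cast, ← irr_charDegree_cast, Nat.cast_inj] at h2
    exact h2
  obtain ⟨T, hT⟩ := hed
  rcases (Nat.lt_or_ge (2 * f + 1) p).elim (fun h => absurd hp2f (not_le.2 h)) (fun _ =>
    Nat.lt_or_ge p (2 * f + 1)) with hlt | hge
  swap
  · exact case_half hna hq hG' hnn hdiv hsq χ₀ hfaith hfdef.symm hf2 (le_antisymm hp2f hge)
  have hmod := D.degY _ hη
  rw [← hfdef, Int.modEq_iff_dvd] at hmod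
  obtain ⟨k, hk⟩ := hmod
  have hp0 : (0 : ℤ) ≤ p := Nat.cast_nonneg p
  rcases D.hσ with rfl | rfl
  swap
  · exfalso
    have hre : inIdx P = f := by
      rcases eq_or_ne k 0 with rfl | hk0
      · omega
      · have h : (p : ℤ) ≤ |(p : ℤ) * k| := by
          rw [abs_mul, Nat.abs_cast]
          exact le_mul_of_one_le_right (Nat.cast_nonneg p) (Int.one_le_abs hk0)
        rw [← hk] at h
        rcases le_abs.1 h with h | h <;> omega
    rw [hre] at hT
    rcases (by omega : T = 0 ∨ T = 1 ∨ 2 ≤ T) with rfl | rfl | hT2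
    · omega
    · omega
    · have := Nat.mul_le_mul_left f hT2
      omega
  -- now `f + inIdx P = p`
  have hre : f + inIdx P = p := by
    have h1 : (p : ℤ) * k < 0 := by omega
    have h2 : (p : ℤ) * k > p * (-2) := by omega
    have hk0 : k < 0 := by
      by_contra h0
      have := mul_nonneg hp0 (not_lt.1 h0)
      omega
    have hk2 : -2 < k := lt_of_mul_lt_mul_left h2 hp0
    obtain rfl : k = -1 := by omega
    omega
  have heG : inIdx P ∣ f * q ^ b := hdvd _ (dvd_mul_right _ _)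
  have hcop : Nat.Coprime (inIdx P) f := by
    rw [Nat.coprime_iff_gcd_eq_one]
    rcases (Nat.dvd_prime hp).1 (hre ▸ dvd_add (Nat.gcd_dvd_right (inIdx P) f) (Nat.gcd_dvd_left _ _))
      with h | h
    · exact h
    · have := Nat.le_of_dvd (show 0 < inIdx P by omega) (Nat.gcd_dvd_left (inIdx P) f)
      omega
  obtain ⟨i, -, hi⟩ := (Nat.dvd_prime_pow hq).1 (hcop.dvd_of_dvd_mul_left heG)
  have hi0 : i ≠ 0 := fun h => by rw [h, pow_zero] at hi; omega
  rw [← Finset.add_sum_erase _ _ h1X, hδ1, charDegree_oneIrr] at hrel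
  push_cast at hrel
  have hq2 : q = 2 := by
    have hs : (q : ℤ) ∣ ∑ χ ∈ X.erase (oneIrr G), δ χ * (charDegree (χ : G → ℂ) : ℤ) :=
      Finset.dvd_sum fun χ hχ => Dvd.dvd.mul_left (Int.natCast_dvd_natCast.2
        (hXq χ (Finset.mem_of_mem_erase hχ) (Finset.ne_of_mem_erase hχ))) _
    have hqe : (q : ℤ) ∣ (inIdx P : ℤ) := Int.natCast_dvd_natCast.2 (hi ▸ dvd_pow_self q hi0)
    have hp1 : (p : ℤ) - 1 = (inIdx P : ℤ) * T := by
      have : ((p - 1 : ℕ) : ℤ) = ((inIdx P * T : ℕ) : ℤ) := by rw [hT]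
      push_cast [Nat.cast_sub hp.one_le] at this
      exact this
    have hre' : (f : ℤ) + inIdx P = p := by exact_mod_cast hre
    have h2 : (q : ℤ) ∣ 2 := by
      have h3 := ((hs.neg_right).sub ((hqe.mul_right (T : ℤ)).sub hqe))
      rwa [show -(∑ χ ∈ X.erase (oneIrr G), δ χ * (charDegree (χ : G → ℂ) : ℤ)) -
        ((inIdx P : ℤ) * T - inIdx P) = 2 by linarith] at h3
    exact (Nat.prime_dvd_prime_iff_eq hq Nat.prime_two).1 (by exact_mod_cast h2)
  subst hq2
  have hf_odd : f % 2 = 1 := by omega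
  have hC : Subgroup.centralizer ((P : Subgroup G) : Set G) = (P : Subgroup G) :=
    P.is_maximal' (Cfsg.Agent.S4729.result p M hM hperf P χ₀ ((D.union χ₀).2 (Or.inr hη)) hfaith
      (by rw [← hfdef]; omega)) (DefectOne.setup_sylow P hP).le_cent
  rcases (by omega : i = 1 ∨ 2 ≤ i) with rfl | hi2
  · rw [pow_one] at hi
    obtain ⟨c, hc, hlt'⟩ := bound_two hM hna hperf hP hC D h1X hδ1 hi (by omega) hf2 hG' hdY
    exact Or.inr ⟨c, hc, hlt'⟩
  · obtain ⟨l, rfl⟩ : ∃ l, i = l + 2 := ⟨i - 2, by omega⟩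
    have h4 : inIdx P = 4 * 2 ^ l := by rw [hi, pow_add]; ring
    have hT0 : 4 ∣ p - 1 := ⟨2 ^ l * T, by rw [hT, h4]; ring⟩
    have hf4 : ¬ (4 : ℤ) ∣ (f : ℤ) + 1 := by omega
    obtain ⟨χ, hχ, hχ4⟩ : ∃ χ ∈ X.erase (oneIrr G), ¬ 4 ∣ charDegree (χ : G → ℂ) := by
      by_contra hno
      push Not at hno
      have hs : (4 : ℤ) ∣ ∑ χ ∈ X.erase (oneIrr G), δ χ * (charDegree (χ : G → ℂ) : ℤ) :=
        Finset.dvd_sum fun χ hχ => Dvd.dvd.mul_left (Int.natCast_dvd_natCast.2 (hno χ hχ)) _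
      exact hf4 (by omega)
    have hχX := Finset.mem_of_mem_erase hχ
    have h2χ := hXq χ hχX (Finset.ne_of_mem_erase hχ)
    obtain ⟨g, e, hgdvd, hge⟩ := dvd_two_pow_mul (d := charDegree (χ : G → ℂ)) (b := b) (f := f)
      (by rw [mul_comm]; exact hdvd _ (D.dvdX χ hχX))
    have hgodd : g % 2 = 1 := by
      obtain ⟨u, hu⟩ := hgdvd
      rcases Nat.mod_two_eq_zero_or_one g with h | h
      · rw [hu, Nat.mul_mod, h] at hf_odd; simp at hf_odd
      · exact h
    have he1 : e = 1 := by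
      rcases (by omega : e = 0 ∨ e = 1 ∨ 2 ≤ e) with rfl | rfl | he2'
      · rw [hge] at h2χ; simp at h2χ; omega
      · rfl
      · exact absurd (hge ▸ Dvd.dvd.mul_left ((show 4 = 2 ^ 2 from rfl) ▸ pow_dvd_pow 2 he2') g) hχ4
    rw [he1, pow_one] at hge
    have hgle : g ≤ f := Nat.le_of_dvd (by omega) hgdvd
    have hg1 : 1 ≤ g := by omega
    have hm := D.degX χ hχX
    rw [hge, Int.modEq_iff_dvd] at hm
    obtain ⟨k', hk'⟩ := hm
    push_cast at hk'
    have hkb : k' = -1 := by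
      have h1 : (p : ℤ) * (-2) < p * k' := by rcases D.hδ χ hχX with hδ | hδ <;> omega
      have h2 : (p : ℤ) * k' < 0 := by rcases D.hδ χ hχX with hδ | hδ <;> omega
      have hk0 : k' < 0 := by
        by_contra h0
        have := mul_nonneg hp0 (not_lt.1 h0)
        omega
      have hk2 : -2 < k' := lt_of_mul_lt_mul_left h1 hp0
      omega
    subst hkb
    have hδp : 2 * g = p + 1 := by
      rcases D.hδ χ hχX with hδ | hδ <;> rw [hδ] at hk'
      · omega
      · exfalso
        have hd : inIdx P ∣ 2 * g := by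
          rw [show 2 * g = p - 1 by omega, hT]; exact dvd_mul_right _ _
        have h3 : inIdx P ∣ 2 :=
          (Nat.Coprime.coprime_dvd_right hgdvd hcop).dvd_of_dvd_mul_right hd
        have h5 := Nat.le_of_dvd two_pos h3
        omega
    have hgeq : g = f := by
      obtain ⟨u, hu⟩ := hgdvd
      rcases (by omega : u = 0 ∨ u = 1 ∨ 2 ≤ u) with rfl | rfl | hu2
      · omega
      · omega
      · have := Nat.mul_le_mul_left g hu2
        omega
    rw [hgeq] at hδp
    have hpi : p = 2 ^ (l + 2 + 1) + 1 := by rw [pow_succ', ← hi]; omega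
    refine Or.inr ⟨l + 2 + 1, hpi, bound_plus hM hna hperf hP hC D h1X hδ1 (by omega) hi hpi ?_ hG' hdY⟩
    rw [← hi]; omega

end CfsgLib.SmallCofactor
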