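import Cfsg.Agent.Lib.SmallSylow.Setting

/-!
# The products of two exceptional characters of degree `(p + 1) / 2`

Let `P` be a self-centralizing Sylow subgroup of prime order `p = 4 K + 1` with two exceptional
characters `θ`, `θ'` of degree `2 K + 1`. Decomposing `θ θ` and `θ θ'` shows that at least `K`
characters of the principal block have degree `p - 1`.
-/

set_option autoImplicit false

namespace CfsgLib.SmallCofactor

open Cfsg CfsgLib.Blocks CfsgLib.CharTheory CfsgLib.SmallSylow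
open scoped ComplexConjugate

set_option linter.unusedVariables false
set_option linter.unusedSectionVars false
set_option linter.style.haveILetI false

universe u

variable {G : Type u} [Group G] [Fintype G] {p : ℕ} [Fact p.Prime] {P : Sylow p G}
  {M : Ideal AlgInt} {X Y : Finset (IrrCharacter G)} {δ : IrrCharacter G → ℤ} {K : ℕ}
  {θ θ' : IrrCharacter G}

/-- The situation studied in this file. -/
structure Mid (P : Sylow p G) (M : Ideal AlgInt) (X Y : Finset (IrrCharacter G))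
    (δ : IrrCharacter G → ℤ) (K : ℕ) (θ θ' : IrrCharacter G) : Prop where
  hM : IsPModular p M
  hPc : Nat.card P = p
  hC : Subgroup.centralizer ((P : Subgroup G) : Set G) = (P : Subgroup G)
  D : Data P M X Y δ 1
  hp : p = 4 * K + 1
  hY : ∀ η, η ∈ Y ↔ η = θ ∨ η = θ'
  hne : θ ≠ θ'
  degY : ∀ η ∈ Y, charDegree (η : G → ℂ) = 2 * K + 1
  h1 : oneIrr G ∈ X
  hδ1 : δ (oneIrr G) = 1
  triX : ∀ χ ∈ X, χ ≠ oneIrr G →
    (charDegree (χ : G → ℂ) = 4 * K + 2 ∧ δ χ = 1) ∨ (charDegree (χ : G → ℂ) = 4 * K ∧ δ χ = -1) ∨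
      (2 * K + 1) ^ 2 < charDegree (χ : G → ℂ)
  card_plus : ∀ A : Finset (IrrCharacter G),
    (∀ χ ∈ A, χ ∈ X ∧ charDegree (χ : G → ℂ) = 4 * K + 2) → A.card + 1 ≤ K
  hinv : ∀ x ∈ (P : Subgroup G), ∃ c : G, c * x * c⁻¹ = x⁻¹

theorem Mid.symm (S : Mid P M X Y δ K θ θ') : Mid P M X Y δ K θ' θ :=
  { S with hY := fun η => (S.hY η).trans or_comm, hne := S.hne.symm }

theorem Mid.mem_left (S : Mid P M X Y δ K θ θ') : θ ∈ Y := (S.hY θ).2 (Or.inl rfl)

theorem Mid.mem_right (S : Mid P M X Y δ K θ θ') : θ' ∈ Y := (S.hY θ').2 (Or.inr rfl)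

theorem Mid.pos (S : Mid P M X Y δ K θ θ') : 1 ≤ K := by
  have := (Fact.out : p.Prime).two_le
  have := S.hp
  omega

theorem Mid.yset (S : Mid P M X Y δ K θ θ') : Y = {θ, θ'} := by
  ext η
  simp [S.hY η]

theorem Mid.inIdx_eq (S : Mid P M X Y δ K θ θ') : inIdx P = 2 * K := by
  have h := S.D.cardY
  rw [S.yset, Finset.card_pair S.hne] at h
  have := S.hp
  omega

theorem Mid.one_apply (g : G) : (oneIrr G : G → ℂ) g = 1 := rfl

theorem Mid.sum_eq_one (S : Mid P M X Y δ K θ θ') {x : G} (hx : x ∈ (P : Subgroup G)) (hx1 : x ≠ 1) :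
    (θ : G → ℂ) x + (θ' : G → ℂ) x = 1 := by
  have h := S.D.sumY x hx hx1
  rw [S.yset, Finset.sum_pair S.hne] at h
  rw [h, Int.cast_one]

theorem Mid.regular_one : ¬ p ∣ orderOf (1 : G) := by
  rw [orderOf_one]; exact (Fact.out : p.Prime).not_dvd_one

theorem Mid.apply_one (S : Mid P M X Y δ K θ θ') : (θ : G → ℂ) 1 = ((2 * K + 1 : ℕ) : ℂ) := by
  rw [← irr_charDegree_cast, S.degY θ S.mem_left]

/-- The exceptional characters are real. -/
theorem Mid.real (S : Mid P M X Y δ K θ θ') (g : G) : conj ((θ : G → ℂ) g) = (θ : G → ℂ) g := by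
  classical
  have hdeg : charDegree (conjIrr θ : G → ℂ) = 2 * K + 1 := by
    apply Nat.cast_injective (R := ℂ)
    rw [irr_charDegree_cast, conjIrr_apply, S.apply_one, Complex.conj_natCast]
  have hK := S.pos
  have hmem : conjIrr θ ∈ Y := by
    by_cases hb : conjIrr θ ∈ principalBlock M G
    · refine ((S.D.union _).1 hb).resolve_left fun hX => ?_
      rcases eq_or_ne (conjIrr θ) (oneIrr G) with h | h
      · rw [h, charDegree_oneIrr] at hdeg; omega
      · have h2 : 2 * K + 1 ≤ (2 * K + 1) ^ 2 := Nat.le_self_pow two_ne_zero _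
        rcases S.triX _ hX h with ⟨h1, -⟩ | ⟨h1, -⟩ | h1 <;> omega
    · exfalso
      have h1 := (outside S.hM P S.hPc S.hC hb).2
      rw [hdeg] at h1
      have h2 := Nat.le_of_dvd (by omega) h1
      have := S.hp
      omega
  rcases (S.hY _).1 hmem with h | h
  · conv_rhs => rw [← h]
    rw [conjIrr_apply]
  exfalso
  obtain ⟨x, hx, hx1⟩ := exists_mem_ne P S.hPc
  obtain ⟨c, hc⟩ := S.hinv x hx
  have h2 : (θ' : G → ℂ) x = (θ : G → ℂ) x := by
    rw [← h, conjIrr_apply, irr_conjInv, ← hc, isClassFunction_irr θ.2]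
  have h3 := S.sum_eq_one hx hx1
  rw [h2] at h3
  have h4 : IsIntegral ℤ ((θ : G → ℂ) x) := by
    obtain ⟨n, ρ, -, e⟩ := θ.2
    rw [← e]
    exact isIntegral_character ρ x
  rw [show (θ : G → ℂ) x = ((1 : ℕ) : ℂ) / ((2 : ℕ) : ℂ) by push_cast; linear_combination h3 / 2] at h4
  exact absurd (natDegree_dvd_of_isIntegral two_ne_zero h4) (by norm_num)

/-- The product of the values on the Sylow subgroup. -/
theorem Mid.prod_eq (S : Mid P M X Y δ K θ θ') {x : G} (hx : x ∈ (P : Subgroup G)) (hx1 : x ≠ 1) :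
    (θ : G → ℂ) x * (θ' : G → ℂ) x = -(K : ℂ) := by
  classical
  have h := sum_irr_mul_conj x x
  rw [if_pos (IsConj.refl _), centralizer_eq P S.hPc hx hx1, S.hC,
    show Nat.card (P : Subgroup G) = p from S.hPc,
    ← Finset.sum_subset (Finset.subset_univ (X ∪ Y)) fun ψ _ hψ => by
      rw [(outside S.hM P S.hPc S.hC (χ := ψ) fun hin =>
        hψ (Finset.mem_union.2 ((S.D.union ψ).1 hin))).1 x hx hx1, zero_mul],
    Finset.sum_union S.D.disj, S.yset, Finset.sum_pair S.hne, S.real, S.symm.real,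
    Finset.sum_congr rfl fun χ (hχ : χ ∈ X) => show (χ : G → ℂ) x * conj ((χ : G → ℂ) x) = 1 by
      rw [S.D.valX χ hχ x hx hx1, map_intCast]
      rcases S.D.hδ χ hχ with h | h <;> rw [h] <;> norm_num,
    Finset.sum_const, S.D.cardX, S.inIdx_eq, nsmul_eq_mul] at h
  have h1 := S.sum_eq_one hx hx1
  have h2 : (p : ℂ) = 4 * (K : ℂ) + 1 := by rw [S.hp]; push_cast; ring
  rw [h2] at h
  push_cast at h
  linear_combination (-(1 : ℂ) / 2) * h +
    ((θ : G → ℂ) x + (θ' : G → ℂ) x + 1) / 2 * h1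

theorem Mid.sq_eq (S : Mid P M X Y δ K θ θ') {x : G} (hx : x ∈ (P : Subgroup G)) (hx1 : x ≠ 1) :
    (θ : G → ℂ) x * (θ : G → ℂ) x = (θ : G → ℂ) x + (K : ℂ) := by
  linear_combination (θ : G → ℂ) x * S.sum_eq_one hx hx1 - S.prod_eq hx hx1

/-- The values on the Sylow subgroup are irrational. -/
theorem Mid.irrational (S : Mid P M X Y δ K θ θ') {x : G} (hx : x ∈ (P : Subgroup G)) (hx1 : x ≠ 1)
    {k n : ℤ} (h : (k : ℂ) * (θ : G → ℂ) x = n) : k = 0 := by
  by_contra hk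
  have h2 : (k : ℂ) ^ 2 * (p : ℂ) = ((2 * n - k : ℤ) : ℂ) ^ 2 := by
    rw [S.hp]
    push_cast
    rw [← h]
    linear_combination (-4 * (k : ℂ) ^ 2) * S.sq_eq hx hx1
  have h3 : (k : ℚ) ^ 2 * (p : ℚ) = ((2 * n - k : ℤ) : ℚ) ^ 2 := by exact_mod_cast h2
  have hk' : (k : ℚ) ≠ 0 := Int.cast_ne_zero.2 hk
  have h4 : IsSquare ((p : ℕ) : ℚ) := ⟨((2 * n - k : ℤ) : ℚ) / k, by
    field_simp
    linear_combination h3⟩
  exact (Fact.out : p.Prime).prime.irreducible.not_isSquare (Rat.isSquare_natCast_iff.1 h4)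

/-- The exceptional characters contain the trivial character of `P` exactly once. -/
theorem Mid.sum_P (S : Mid P M X Y δ K θ θ') [Fintype (P : Subgroup G)] :
    ∑ x : (P : Subgroup G), (θ : G → ℂ) x = (p : ℂ) := by
  classical
  obtain ⟨m, hm⟩ := classInner_char_nat (isCharacter_restrict (isCharacter_of_irr θ.2) (P : Subgroup G))
    (isCharacter_one (G := (P : Subgroup G)))
  rw [classInner, inv_mul_eq_iff_eq_mul₀ (Nat.cast_ne_zero.2 Nat.card_pos.ne'),
    show Nat.card (P : Subgroup G) = p from S.hPc] at hm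
  simp only [map_one, mul_one] at hm
  obtain ⟨x₀, hx₀, hx₀1⟩ := exists_mem_ne P S.hPc
  have key : ∀ T : Finset (P : Subgroup G), (∀ x ∈ T, x ≠ 1) →
      ∃ c : ℤ, ∑ x ∈ T, (2 * (θ : G → ℂ) x - 1) = (c : ℂ) * (2 * (θ : G → ℂ) x₀ - 1) := by
    intro T
    induction T using Finset.induction_on with
    | empty => intro _; exact ⟨0, by simp⟩
    | @insert y T hy ih =>
      intro hT
      obtain ⟨c, hc⟩ := ih fun x hx => hT x (Finset.mem_insert_of_mem hx)
      have hy1 : (y : G) ≠ 1 := fun e => hT y (Finset.mem_insert_self y T) (Subtype.ext e)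
      have hsq : (2 * (θ : G → ℂ) (y : G) - 1) ^ 2 = (2 * (θ : G → ℂ) x₀ - 1) ^ 2 := by
        linear_combination 4 * S.sq_eq y.2 hy1 - 4 * S.sq_eq hx₀ hx₀1
      rw [Finset.sum_insert hy, hc]
      rcases sq_eq_sq_iff_eq_or_eq_neg.1 hsq with h | h <;> rw [h]
      · exact ⟨c + 1, by push_cast; ring⟩
      · exact ⟨c - 1, by push_cast; ring⟩
  obtain ⟨c, hc⟩ := key (Finset.univ.erase 1) fun x hx => Finset.ne_of_mem_erase hx
  have hone : (θ : G → ℂ) ((1 : (P : Subgroup G)) : G) = ((2 * K + 1 : ℕ) : ℂ) := by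
    rw [Subgroup.coe_one, S.apply_one]
  have hcard : ((Finset.univ.erase (1 : (P : Subgroup G))).card : ℂ) = 4 * (K : ℂ) := by
    rw [Finset.card_erase_of_mem (Finset.mem_univ _), Finset.card_univ, ← Nat.card_eq_fintype_card,
      show Nat.card (P : Subgroup G) = p from S.hPc, S.hp, Nat.add_sub_cancel]
    push_cast
    ring
  rw [← Finset.add_sum_erase _ _ (Finset.mem_univ (1 : (P : Subgroup G))), hone] at hm ⊢
  rw [Finset.sum_sub_distrib, ← Finset.mul_sum, Finset.sum_const, nsmul_eq_mul, hcard, mul_one] at hc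
  have hp' : (p : ℂ) = 4 * (K : ℂ) + 1 := by rw [S.hp]; push_cast; ring
  push_cast at hm ⊢
  have h0 := S.irrational hx₀ hx₀1 (k := 2 * c)
    (n := 2 * ((p : ℤ) * m - (2 * K + 1)) - 4 * K + c) (by
      push_cast
      linear_combination -hc + 2 * hm)
  have hc0 : c = 0 := by omega
  rw [hc0, Int.cast_zero, zero_mul] at hc
  linear_combination hc / 2 - hp'

/-- The multiplicity of the trivial character of `P`. -/
noncomputable def fix (P : Sylow p G) [Fintype (P : Subgroup G)] (F : G → ℂ) : ℂ :=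
  (p : ℂ)⁻¹ * ∑ x : (P : Subgroup G), F x

theorem fix_const [Fintype (P : Subgroup G)] (hPc : Nat.card P = p) {F : G → ℂ} {v : ℂ}
    (h : ∀ x ∈ (P : Subgroup G), x ≠ 1 → F x = v) :
    fix P F = (p : ℂ)⁻¹ * (F 1 + ((p : ℂ) - 1) * v) := by
  classical
  rw [fix, ← Finset.add_sum_erase _ _ (Finset.mem_univ (1 : (P : Subgroup G))),
    Finset.sum_congr rfl fun (x : (P : Subgroup G)) hx => h x x.2
      (fun e => Finset.ne_of_mem_erase hx (Subtype.ext e)),
    Finset.sum_const, Finset.card_erase_of_mem (Finset.mem_univ _), Finset.card_univ,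
    ← Nat.card_eq_fintype_card, show Nat.card (P : Subgroup G) = p from hPc, nsmul_eq_mul,
    Nat.cast_sub (Fact.out : p.Prime).one_le, Nat.cast_one, Subgroup.coe_one]

theorem Mid.fix_theta (S : Mid P M X Y δ K θ θ') [Fintype (P : Subgroup G)] :
    fix P (θ : G → ℂ) = 1 := by
  rw [fix, S.sum_P, inv_mul_cancel₀ (Nat.cast_ne_zero.2 (Fact.out : p.Prime).ne_zero)]

theorem Mid.fix_mul (S : Mid P M X Y δ K θ θ') [Fintype (P : Subgroup G)] :
    fix P (fun g => (θ : G → ℂ) g * (θ' : G → ℂ) g) = 1 := by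
  rw [fix_const S.hPc (fun x hx hx1 => S.prod_eq hx hx1), S.apply_one, S.symm.apply_one, S.hp]
  have h : (((4 * K + 1 : ℕ) : ℂ)) ≠ 0 := Nat.cast_ne_zero.2 (by omega)
  rw [inv_mul_eq_iff_eq_mul₀ h]
  push_cast
  ring

theorem Mid.fix_sq (S : Mid P M X Y δ K θ θ') [Fintype (P : Subgroup G)] :
    fix P (fun g => (θ : G → ℂ) g * (θ : G → ℂ) g) = ((2 * K + 1 : ℕ) : ℂ) := by
  classical
  have h1 := S.sum_P
  rw [← Finset.add_sum_erase _ _ (Finset.mem_univ (1 : (P : Subgroup G)))] at h1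
  rw [fix, inv_mul_eq_iff_eq_mul₀ (Nat.cast_ne_zero.2 (Fact.out : p.Prime).ne_zero),
    ← Finset.add_sum_erase _ _ (Finset.mem_univ (1 : (P : Subgroup G))),
    Finset.sum_congr rfl fun (x : (P : Subgroup G)) hx =>
      S.sq_eq x.2 (fun e => Finset.ne_of_mem_erase hx (Subtype.ext e)),
    Finset.sum_add_distrib, Finset.sum_const, Finset.card_erase_of_mem (Finset.mem_univ _),
    Finset.card_univ, ← Nat.card_eq_fintype_card, show Nat.card (P : Subgroup G) = p from S.hPc,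
    nsmul_eq_mul, Nat.cast_sub (Fact.out : p.Prime).one_le]
  rw [Subgroup.coe_one, S.apply_one] at h1 ⊢
  have hp' : (p : ℂ) = 4 * (K : ℂ) + 1 := by rw [S.hp]; push_cast; ring
  push_cast at h1 ⊢
  linear_combination h1 - 2 * (K : ℂ) * hp' + (K : ℂ) * hp'

/-- The characters of the block of degree `p + 1`. -/
noncomputable def plus (X : Finset (IrrCharacter G)) (K : ℕ) : Finset (IrrCharacter G) :=
  X.filter fun χ => charDegree (χ : G → ℂ) = 4 * K + 2

/-- The characters of the block of degree `p - 1`. -/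
noncomputable def minus (X : Finset (IrrCharacter G)) (K : ℕ) : Finset (IrrCharacter G) :=
  X.filter fun χ => charDegree (χ : G → ℂ) = 4 * K

theorem Mid.ne_one_of_deg (S : Mid P M X Y δ K θ θ') {χ : IrrCharacter G}
    (h : charDegree (χ : G → ℂ) = 4 * K + 2 ∨ charDegree (χ : G → ℂ) = 4 * K) : χ ≠ oneIrr G := by
  rintro rfl
  have := S.pos
  rw [charDegree_oneIrr] at h
  omega

/-- A sum over the irreducible characters, grouped. -/
theorem Mid.split (S : Mid P M X Y δ K θ θ') {R : Type*} [AddCommMonoid R] (F : IrrCharacter G → R)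
    (hbig : ∀ χ ∈ X, (2 * K + 1) ^ 2 < charDegree (χ : G → ℂ) → F χ = 0) :
    ∑ ψ, F ψ = F (oneIrr G) + ∑ ψ ∈ plus X K, F ψ + ∑ ψ ∈ minus X K, F ψ + F θ + F θ' +
      ∑ ψ ∈ Finset.univ \ (X ∪ Y), F ψ := by
  classical
  rw [← Finset.sum_sdiff (Finset.subset_univ (X ∪ Y)), Finset.sum_union S.D.disj,
    ← Finset.add_sum_erase _ _ S.h1]
  have h1 : ∑ ψ ∈ X.erase (oneIrr G), F ψ = ∑ ψ ∈ plus X K, F ψ + ∑ ψ ∈ minus X K, F ψ := by
    rw [← Finset.sum_union (show Disjoint (plus X K) (minus X K) from Finset.disjoint_filter.2 fun χ _ h h' => by omega)]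
    refine (Finset.sum_subset (fun χ hχ => ?_) fun χ hχ hn => ?_).symm
    · rcases Finset.mem_union.1 hχ with h | h <;> obtain ⟨h1, h2⟩ := Finset.mem_filter.1 h
      · exact Finset.mem_erase.2 ⟨S.ne_one_of_deg (Or.inl h2), h1⟩
      · exact Finset.mem_erase.2 ⟨S.ne_one_of_deg (Or.inr h2), h1⟩
    · obtain ⟨hne, hX⟩ := Finset.mem_erase.1 hχ
      rcases S.triX χ hX hne with ⟨h, -⟩ | ⟨h, -⟩ | h
      · exact absurd (Finset.mem_union_left _ (Finset.mem_filter.2 ⟨hX, h⟩)) hn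
      · exact absurd (Finset.mem_union_right _ (Finset.mem_filter.2 ⟨hX, h⟩)) hn
      · exact hbig χ hX h
  have h2 : ∑ η ∈ Y, F η = F θ + F θ' := by rw [S.yset, Finset.sum_pair S.hne]
  rw [h1, h2]
  abel

theorem Mid.valX_plus (S : Mid P M X Y δ K θ θ') {χ : IrrCharacter G} (hχ : χ ∈ plus X K) {x : G}
    (hx : x ∈ (P : Subgroup G)) (hx1 : x ≠ 1) : (χ : G → ℂ) x = 1 := by
  obtain ⟨hX, hd⟩ := Finset.mem_filter.1 hχ
  rw [S.D.valX χ hX x hx hx1]
  rcases S.triX χ hX (S.ne_one_of_deg (Or.inl hd)) with ⟨-, h⟩ | ⟨h, -⟩ | h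
  · rw [h, Int.cast_one]
  · omega
  · have := S.pos; exfalso; nlinarith

theorem Mid.valX_minus (S : Mid P M X Y δ K θ θ') {χ : IrrCharacter G} (hχ : χ ∈ minus X K) {x : G}
    (hx : x ∈ (P : Subgroup G)) (hx1 : x ≠ 1) : (χ : G → ℂ) x = -1 := by
  obtain ⟨hX, hd⟩ := Finset.mem_filter.1 hχ
  rw [S.D.valX χ hX x hx hx1]
  rcases S.triX χ hX (S.ne_one_of_deg (Or.inr hd)) with ⟨h, -⟩ | ⟨-, h⟩ | h
  · omega
  · rw [h, Int.cast_neg, Int.cast_one]
  · have := S.pos; exfalso; nlinarith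

theorem Mid.out_not_mem (S : Mid P M X Y δ K θ θ') {ψ : IrrCharacter G}
    (hψ : ψ ∈ Finset.univ \ (X ∪ Y)) : ψ ∉ principalBlock M G := fun hin =>
  (Finset.mem_sdiff.1 hψ).2 (Finset.mem_union.2 ((S.D.union ψ).1 hin))

/-- The two equations for the multiplicities in a character of degree `(2 K + 1) ²`. -/
theorem Mid.equations (S : Mid P M X Y δ K θ θ') [Fintype (P : Subgroup G)] {F : G → ℂ}
    (hF : IsClassFunction G F) (hF1 : F 1 = (((2 * K + 1) ^ 2 : ℕ) : ℂ))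
    {c : IrrCharacter G → ℕ} (hc : ∀ ψ : IrrCharacter G, classInner F (ψ : G → ℂ) = c ψ) :
    (∀ ψ : IrrCharacter G, (2 * K + 1) ^ 2 < charDegree (ψ : G → ℂ) → c ψ = 0) ∧
    (∀ x ∈ (P : Subgroup G), x ≠ 1 → F x = (c (oneIrr G) : ℂ) + ∑ ψ ∈ plus X K, (c ψ : ℂ) -
      ∑ ψ ∈ minus X K, (c ψ : ℂ) + (c θ : ℂ) * (θ : G → ℂ) x + (c θ' : ℂ) * (θ' : G → ℂ) x) ∧
    fix P F = ((c (oneIrr G) + 2 * ∑ ψ ∈ plus X K, c ψ + c θ + c θ' +
      ∑ ψ ∈ Finset.univ \ (X ∪ Y), c ψ * (charDegree (ψ : G → ℂ) / p) : ℕ) : ℂ) := by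
  classical
  have hexp : ∀ g : G, F g = ∑ ψ : IrrCharacter G, (c ψ : ℂ) * (ψ : G → ℂ) g := fun g => by
    simpa [hc] using congrFun (eq_sum_irr hF) g
  have hbig : ∀ ψ : IrrCharacter G, (2 * K + 1) ^ 2 < charDegree (ψ : G → ℂ) → c ψ = 0 := by
    intro ψ hψ
    have h : ∑ χ : IrrCharacter G, c χ * charDegree (χ : G → ℂ) = (2 * K + 1) ^ 2 := by
      apply Nat.cast_injective (R := ℂ)
      rw [← hF1, hexp 1, Nat.cast_sum]
      exact Finset.sum_congr rfl fun χ _ => by rw [Nat.cast_mul, irr_charDegree_cast]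
    have h1 := Finset.single_le_sum (f := fun χ : IrrCharacter G => c χ * charDegree (χ : G → ℂ))
      (fun χ _ => Nat.zero_le _) (Finset.mem_univ ψ)
    rw [h] at h1
    by_contra h0
    have := Nat.le_mul_of_pos_left (charDegree (ψ : G → ℂ)) (Nat.pos_of_ne_zero h0)
    omega
  refine ⟨hbig, fun x hx hx1 => ?_, ?_⟩
  · rw [hexp x, S.split _ fun χ _ h => by rw [hbig χ h, Nat.cast_zero, zero_mul],
      Finset.sum_congr rfl fun ψ (hψ : ψ ∈ plus X K) => show (c ψ : ℂ) * (ψ : G → ℂ) x = c ψ by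
        rw [S.valX_plus hψ hx hx1, mul_one],
      Finset.sum_congr rfl fun ψ (hψ : ψ ∈ minus X K) => show (c ψ : ℂ) * (ψ : G → ℂ) x = -(c ψ : ℂ) by
        rw [S.valX_minus hψ hx hx1, mul_neg_one],
      Finset.sum_neg_distrib,
      Finset.sum_eq_zero (s := Finset.univ \ (X ∪ Y)) fun ψ hψ => by
        rw [(outside S.hM P S.hPc S.hC (S.out_not_mem hψ)).1 x hx hx1, mul_zero],
      Mid.one_apply, mul_one, add_zero]
    ring
  · have hlin : fix P F = ∑ ψ : IrrCharacter G, (c ψ : ℂ) * fix P (ψ : G → ℂ) := by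
      simp only [fix]
      rw [Finset.sum_congr rfl fun (x : (P : Subgroup G)) _ => hexp x, Finset.sum_comm, Finset.mul_sum]
      refine Finset.sum_congr rfl fun ψ _ => ?_
      rw [← Finset.mul_sum]
      ring
    have hp0 : (p : ℂ) ≠ 0 := Nat.cast_ne_zero.2 (Fact.out : p.Prime).ne_zero
    have hone : fix P (oneIrr G : G → ℂ) = 1 := by
      rw [fix_const S.hPc (fun x _ _ => Mid.one_apply x), Mid.one_apply, mul_one, add_sub_cancel,
        inv_mul_cancel₀ hp0]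
    have hpl : ∀ ψ ∈ plus X K, fix P (ψ : G → ℂ) = 2 := fun ψ hψ => by
      rw [fix_const S.hPc (fun x hx hx1 => S.valX_plus hψ hx hx1), inv_mul_eq_iff_eq_mul₀ hp0,
        ← irr_charDegree_cast, (Finset.mem_filter.1 hψ).2, S.hp]
      push_cast
      ring
    have hmi : ∀ ψ ∈ minus X K, fix P (ψ : G → ℂ) = 0 := fun ψ hψ => by
      rw [fix_const S.hPc (fun x hx hx1 => S.valX_minus hψ hx hx1),
        ← irr_charDegree_cast, (Finset.mem_filter.1 hψ).2, S.hp]
      push_cast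
      ring
    have hout : ∀ ψ ∈ Finset.univ \ (X ∪ Y), fix P (ψ : G → ℂ) =
        ((charDegree (ψ : G → ℂ) / p : ℕ) : ℂ) := fun ψ hψ => by
      have ho := outside S.hM P S.hPc S.hC (S.out_not_mem hψ)
      rw [fix_const S.hPc ho.1, mul_zero, add_zero, ← irr_charDegree_cast,
        Nat.cast_div ho.2 hp0, inv_mul_eq_div]
    rw [hlin, S.split _ fun χ _ h => by rw [hbig χ h, Nat.cast_zero, zero_mul],
      Finset.sum_congr rfl fun ψ (hψ : ψ ∈ plus X K) => show (c ψ : ℂ) * fix P (ψ : G → ℂ) = (c ψ : ℂ) * 2 by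
        rw [hpl ψ hψ],
      Finset.sum_eq_zero fun ψ (hψ : ψ ∈ minus X K) => show (c ψ : ℂ) * fix P (ψ : G → ℂ) = 0 by
        rw [hmi ψ hψ, mul_zero],
      Finset.sum_congr rfl fun ψ (hψ : ψ ∈ Finset.univ \ (X ∪ Y)) =>
        show (c ψ : ℂ) * fix P (ψ : G → ℂ) = ((c ψ * (charDegree (ψ : G → ℂ) / p) : ℕ) : ℂ) by
          rw [hout ψ hψ, Nat.cast_mul],
      hone, S.fix_theta, S.symm.fix_theta, ← Finset.sum_mul]
    push_cast
    ring

/-- The characters of degree `p + 1` occur at most once in `θ θ`. -/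
theorem Mid.coeff_le_one (S : Mid P M X Y δ K θ θ') {c : IrrCharacter G → ℕ}
    (hc : ∀ g : G, (θ : G → ℂ) g * (θ : G → ℂ) g = ∑ ψ, (c ψ : ℂ) * (ψ : G → ℂ) g)
    (hc1 : c (oneIrr G) = 1) {χ : IrrCharacter G} (hχ : χ ∈ plus X K) : c χ ≤ 1 := by
  classical
  haveI : Fintype (P : Subgroup G) := Fintype.ofFinite _
  obtain ⟨H, L⟩ := exists_local P S.hPc S.hC
  haveI : Fintype H := Fintype.ofFinite H
  haveI : Fintype (nrm P) := Fintype.ofFinite _
  choose m hm hm1 using fun ψ : IrrCharacter G => exists_mult L S.hPc ψ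
  have hp0 : (p : ℂ) ≠ 0 := Nat.cast_ne_zero.2 (Fact.out : p.Prime).ne_zero
  have hcomm : ∀ a b : H, a * b = b * a := fun a b => Subtype.ext (L.comm a.2 b.2)
  have hlin : ∀ μ : IrrCharacter H, (μ : H → ℂ) 1 = 1 := fun μ => degree_one_of_commutative hcomm μ.2
  have havg1 : ∀ ψ : IrrCharacter G, avg P H ψ 1 = fix P (ψ : G → ℂ) := fun ψ => avg_one ψ
  -- the values of the exceptional character off `P`
  have hsq : ∀ h : H, h ≠ 1 → (θ : G → ℂ) h * (θ : G → ℂ) h = 1 := by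
    intro h hh
    have h1 : ((∑ μ : IrrCharacter H, m θ μ : ℕ) : ℂ) = ((1 : ℕ) : ℂ) := by
      rw [Nat.cast_one, ← S.fix_theta, ← havg1 θ, hm θ 1, Nat.cast_sum]
      exact Finset.sum_congr rfl fun μ _ => by rw [hlin μ, mul_one]
    have h1' : ∑ μ : IrrCharacter H, m θ μ = 1 := Nat.cast_inj.1 h1
    obtain ⟨lam, -, hlam⟩ := Finset.exists_ne_zero_of_sum_ne_zero (h1'.symm ▸ one_ne_zero)
    have hsplit := Finset.add_sum_erase Finset.univ (fun μ => m θ μ) (Finset.mem_univ lam)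
    simp only [h1'] at hsplit
    have hrest : ∀ μ ∈ Finset.univ.erase lam, m θ μ = 0 :=
      Finset.sum_eq_zero_iff.1 (by omega)
    have h2 : (θ : G → ℂ) h = (lam : H → ℂ) h := by
      rw [← avg_eq L S.hPc θ (show (h : G) ≠ 1 from fun e => hh (Subtype.ext e)), hm θ h,
        Finset.sum_eq_single lam (fun μ _ hμ => by
          rw [hrest μ (Finset.mem_erase.2 ⟨hμ, Finset.mem_univ μ⟩), Nat.cast_zero, zero_mul])
          (fun h0 => absurd (Finset.mem_univ _) h0),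
        show m θ lam = 1 by omega, Nat.cast_one, one_mul]
    obtain ⟨φ, hφ⟩ := exists_hom_of_degree_one (isCharacter_of_irr lam.2) (hlin lam)
    have h3 : ‖(θ : G → ℂ) h‖ = 1 := by
      rw [h2, hφ]
      have h4 : φ h ^ orderOf h = 1 := by rw [← map_pow, pow_orderOf_eq_one, map_one]
      refine Complex.norm_eq_one_of_pow_eq_one ?_ (orderOf_pos h).ne'
      show ((φ h : ℂˣ) : ℂ) ^ orderOf h = 1
      rw [← Units.val_pow_eq_pow_val, h4, Units.val_one]
    have h5 := Complex.mul_conj' ((θ : G → ℂ) h)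
    rw [S.real, h3] at h5
    simpa using h5
  -- the average of the square
  have hFH : ∀ h : H, ∑ ψ, (c ψ : ℂ) * avg P H ψ h =
      1 + if h = 1 then ((2 * K : ℕ) : ℂ) else 0 := by
    intro h
    have e : ∑ ψ, (c ψ : ℂ) * avg P H ψ h =
        (p : ℂ)⁻¹ * ∑ x : (P : Subgroup G), (θ : G → ℂ) ((x : G) * h) * (θ : G → ℂ) ((x : G) * h) := by
      rw [Finset.sum_congr rfl fun (x : (P : Subgroup G)) _ => hc ((x : G) * h), Finset.sum_comm,
        Finset.mul_sum]
      refine Finset.sum_congr rfl fun ψ _ => ?_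
      rw [avg, ← Finset.mul_sum]
      ring
    rw [e]
    by_cases hh : h = 1
    · subst hh
      rw [if_pos rfl]
      have := S.fix_sq
      rw [fix] at this
      simp only [Subgroup.coe_one, mul_one]
      rw [this]
      push_cast
      ring
    · rw [if_neg hh, add_zero, Finset.sum_congr rfl fun (x : (P : Subgroup G)) _ => by
        rw [L.value_coset θ h.2 (fun e' => hh (Subtype.ext e')) x.2, hsq h hh],
        Finset.sum_const, Finset.card_univ, ← Nat.card_eq_fintype_card,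
        show Nat.card (P : Subgroup G) = p from S.hPc, nsmul_eq_mul, mul_one, inv_mul_cancel₀ hp0]
  have hcoef : ∀ μ : IrrCharacter H,
      ∑ ψ, c ψ * m ψ μ = (if μ = oneIrr H then 1 else 0) + 1 := by
    intro μ
    apply Nat.cast_injective (R := ℂ)
    have e1 : classInner (fun h : H => ∑ ψ, (c ψ : ℂ) * avg P H ψ h) (μ : H → ℂ) =
        ((∑ ψ, c ψ * m ψ μ : ℕ) : ℂ) := by
      have e2 : (fun h : H => ∑ ψ, (c ψ : ℂ) * avg P H ψ h) =
          ∑ ν : IrrCharacter H, ((∑ ψ, c ψ * m ψ ν : ℕ) : ℂ) • (ν : H → ℂ) := by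
        funext h
        rw [Finset.sum_apply, Finset.sum_congr rfl fun ψ _ => by rw [hm ψ h, Finset.mul_sum],
          Finset.sum_comm]
        refine Finset.sum_congr rfl fun ν _ => ?_
        rw [Pi.smul_apply, smul_eq_mul, Nat.cast_sum, Finset.sum_mul]
        exact Finset.sum_congr rfl fun ψ _ => by rw [Nat.cast_mul]; ring
      rw [e2, classInner_sum_left, Finset.sum_eq_single μ (fun ν _ hν => by
        rw [classInner_smul_left, classInner_irr_ne ν.2 μ.2 (fun e3 => hν (Subtype.ext e3)), mul_zero])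
        (fun h0 => absurd (Finset.mem_univ _) h0), classInner_smul_left, classInner_irr_self μ.2, mul_one]
    rw [← e1, funext hFH]
    have e3 : classInner (fun h : H => (1 : ℂ) + if h = 1 then ((2 * K : ℕ) : ℂ) else 0) (μ : H → ℂ) =
        classInner (oneIrr H : H → ℂ) (μ : H → ℂ) +
          classInner (fun h : H => if h = 1 then ((2 * K : ℕ) : ℂ) else 0) (μ : H → ℂ) := by
      rw [← classInner_add_left]
      rfl
    have e4 : classInner (fun h : H => if h = 1 then ((2 * K : ℕ) : ℂ) else 0) (μ : H → ℂ) = 1 := by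
      rw [classInner, Finset.sum_eq_single (1 : H) (fun h _ hh => by rw [if_neg hh, zero_mul])
        (fun h0 => absurd (Finset.mem_univ _) h0), if_pos rfl, hlin μ, map_one, mul_one, L.card,
        S.inIdx_eq, inv_mul_cancel₀ (Nat.cast_ne_zero.2 (by have := S.pos; omega))]
    rw [e3, e4, classInner_irr (oneIrr H).2 μ.2]
    by_cases hμ : μ = oneIrr H
    · rw [if_pos hμ, if_pos (congrArg Subtype.val hμ.symm)]; push_cast; ring
    · rw [if_neg hμ, if_neg fun e => hμ (Subtype.ext e.symm)]; push_cast; ring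
  obtain ⟨μ, -, hμ⟩ : ∃ μ ∈ (Finset.univ : Finset (IrrCharacter H)), m χ μ ≠ 0 := by
    refine Finset.exists_ne_zero_of_sum_ne_zero fun h0 => ?_
    have h1 : avg P H χ 1 = 2 := by
      rw [havg1, fix_const S.hPc (fun x hx hx1 => S.valX_plus hχ hx hx1), inv_mul_eq_iff_eq_mul₀ hp0,
        ← irr_charDegree_cast, (Finset.mem_filter.1 hχ).2, S.hp]
      push_cast
      ring
    rw [hm χ 1, Finset.sum_congr rfl fun μ _ => by rw [hlin μ, mul_one], ← Nat.cast_sum, h0,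
      Nat.cast_zero] at h1
    norm_num at h1
  have hne : χ ≠ oneIrr G := S.ne_one_of_deg (Or.inl (Finset.mem_filter.1 hχ).2)
  have hle := Finset.sum_le_sum_of_subset (f := fun ψ => c ψ * m ψ μ)
    (Finset.subset_univ ({oneIrr G, χ} : Finset (IrrCharacter G)))
  rw [Finset.sum_pair hne.symm, hcoef μ, hc1, one_mul] at hle
  have hmul : c χ ≤ c χ * m χ μ := Nat.le_mul_of_pos_right _ (Nat.pos_of_ne_zero hμ)
  by_cases hμ1 : μ = oneIrr H
  · have hm0 : m (oneIrr G) μ = 1 := by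
      apply Nat.cast_injective (R := ℂ)
      rw [hμ1, hm1 (oneIrr G)]
      exact (classInner_irr_self (G := nrm P) isIrrCharacter_one).trans Nat.cast_one.symm
    rw [hm0, if_pos hμ1] at hle
    omega
  · rw [if_neg hμ1] at hle
    omega

theorem classInner_real_swap (a b d : G → ℂ) (hb : ∀ g, conj (b g) = b g) :
    classInner (fun g => a g * b g) d = classInner a (fun g => b g * d g) := by
  simp only [classInner]
  congr 1
  exact Finset.sum_congr rfl fun g _ => by rw [map_mul, hb]; ring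

/-- The decomposition of `θ θ`. -/
theorem Mid.square (S : Mid P M X Y δ K θ θ') :
    ∃ c : IrrCharacter G → ℕ,
      (∀ g : G, (θ : G → ℂ) g * (θ : G → ℂ) g = ∑ ψ, (c ψ : ℂ) * (ψ : G → ℂ) g) ∧
      c (oneIrr G) = 1 ∧ c θ = 1 ∧ c θ' = 0 ∧ (∀ ψ ∈ plus X K, c ψ ≤ 1) ∧
      (∀ ψ ∈ minus X K, c ψ = 0) ∧
      ∑ ψ ∈ Finset.univ \ (X ∪ Y), c ψ * (charDegree (ψ : G → ℂ) / p) = 1 ∧
      (∀ χ ∈ X, (2 * K + 1) ^ 2 < charDegree (χ : G → ℂ) → c χ = 0) ∧
      ∃ d : IrrCharacter G → ℕ,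
        (∀ g : G, (θ : G → ℂ) g * (θ' : G → ℂ) g = ∑ ψ, (d ψ : ℂ) * (ψ : G → ℂ) g) ∧
        (∀ χ ∈ X, (2 * K + 1) ^ 2 < charDegree (χ : G → ℂ) → d χ = 0) ∧
        ∑ ψ ∈ minus X K, d ψ = K ∧ 1 ≤ ∑ ψ ∈ Finset.univ \ (X ∪ Y), d ψ * d ψ := by
  classical
  haveI : Fintype (P : Subgroup G) := Fintype.ofFinite _
  have hθ := isCharacter_of_irr θ.2
  have hθ' := isCharacter_of_irr θ'.2
  choose c hc using fun ψ : IrrCharacter G =>
    classInner_char_nat (isCharacter_mul hθ hθ) (isCharacter_of_irr ψ.2)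
  choose d hd using fun ψ : IrrCharacter G =>
    classInner_char_nat (isCharacter_mul hθ hθ') (isCharacter_of_irr ψ.2)
  obtain ⟨hcbig, hcval, hcfix⟩ := S.equations
    (F := fun g => (θ : G → ℂ) g * (θ : G → ℂ) g)
    (isClassFunction_char (isCharacter_mul hθ hθ)) (by rw [S.apply_one]; push_cast; ring) hc
  obtain ⟨hdbig, hdval, hdfix⟩ := S.equations
    (F := fun g => (θ : G → ℂ) g * (θ' : G → ℂ) g)
    (isClassFunction_char (isCharacter_mul hθ hθ'))
    (by rw [S.apply_one, S.symm.apply_one]; push_cast; ring) hd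
  have hc1 : c (oneIrr G) = 1 := by
    apply Nat.cast_injective (R := ℂ)
    rw [← hc, Nat.cast_one, show (θ : G → ℂ) * (θ : G → ℂ) = fun g => (θ : G → ℂ) g * (θ : G → ℂ) g from rfl,
      classInner_real_swap _ _ _ S.real]
    simp only [Mid.one_apply, mul_one]
    exact classInner_irr_self θ.2
  have hd1 : d (oneIrr G) = 0 := by
    apply Nat.cast_injective (R := ℂ)
    rw [← hd, Nat.cast_zero, show (θ : G → ℂ) * (θ' : G → ℂ) = fun g => (θ : G → ℂ) g * (θ' : G → ℂ) g from rfl,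
      classInner_real_swap _ _ _ S.symm.real]
    simp only [Mid.one_apply, mul_one]
    exact classInner_irr_ne θ.2 θ'.2 fun e => S.hne (Subtype.ext e)
  have hcθ' : c θ' = d θ := by
    apply Nat.cast_injective (R := ℂ)
    rw [← hc, ← hd]
    simp only [classInner, Pi.mul_apply]
    congr 1
    exact Finset.sum_congr rfl fun g _ => by rw [S.real, S.symm.real]; ring
  rw [S.fix_mul, ← Nat.cast_one, Nat.cast_inj] at hdfix
  rw [S.fix_sq, Nat.cast_inj] at hcfix
  obtain ⟨x, hx, hx1⟩ := exists_mem_ne P S.hPc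
  have h1 := hdval x hx hx1
  have h2 := hcval x hx hx1
  rw [S.prod_eq hx hx1, hd1] at h1
  rw [S.sq_eq hx hx1, hc1] at h2
  have hsum := S.sum_eq_one hx hx1
  rw [show ∑ ψ ∈ plus X K, (d ψ : ℂ) = ((∑ ψ ∈ plus X K, d ψ : ℕ) : ℂ) by push_cast; rfl,
    show ∑ ψ ∈ plus X K, d ψ = 0 by omega,
    show ∑ ψ ∈ minus X K, (d ψ : ℂ) = ((∑ ψ ∈ minus X K, d ψ : ℕ) : ℂ) by push_cast; rfl] at h1
  have hy := S.irrational hx hx1 (k := (d θ : ℤ) - d θ')
    (n := ((∑ ψ ∈ minus X K, d ψ : ℕ) : ℤ) - K - d θ') (by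
      push_cast
      push_cast at h1
      linear_combination -h1 - (d θ' : ℂ) * hsum)
  have hyθ : d θ = 0 := by omega
  have hyθ' : d θ' = 0 := by omega
  rw [hyθ, hyθ'] at h1
  have hB : ∑ ψ ∈ minus X K, d ψ = K := by
    have : ((∑ ψ ∈ minus X K, d ψ : ℕ) : ℂ) = (K : ℂ) := by
      push_cast
      push_cast at h1
      linear_combination h1
    exact Nat.cast_inj.1 this
  rw [hyθ] at hcθ'
  rw [show ∑ ψ ∈ plus X K, (c ψ : ℂ) = ((∑ ψ ∈ plus X K, c ψ : ℕ) : ℂ) by push_cast; rfl,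
    show ∑ ψ ∈ minus X K, (c ψ : ℂ) = ((∑ ψ ∈ minus X K, c ψ : ℕ) : ℂ) by push_cast; rfl, hcθ'] at h2
  have hcθ : (c θ : ℤ) - 1 = 0 := S.irrational hx hx1
    (n := (K : ℤ) - 1 - ((∑ ψ ∈ plus X K, c ψ : ℕ) : ℤ) + ((∑ ψ ∈ minus X K, c ψ : ℕ) : ℤ)) (by
      push_cast
      push_cast at h2
      linear_combination -h2)
  have hcθ1 : c θ = 1 := by omega
  rw [hcθ1] at h2
  have hAB : (∑ ψ ∈ plus X K, c ψ) + 1 = K + ∑ ψ ∈ minus X K, c ψ := by
    have : (((∑ ψ ∈ plus X K, c ψ) + 1 : ℕ) : ℂ) = ((K + ∑ ψ ∈ minus X K, c ψ : ℕ) : ℂ) := by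
      push_cast
      push_cast at h2
      linear_combination -h2
    exact Nat.cast_inj.1 this
  have hexp : ∀ g : G, (θ : G → ℂ) g * (θ : G → ℂ) g = ∑ ψ, (c ψ : ℂ) * (ψ : G → ℂ) g := fun g => by
    simpa [hc] using congrFun (eq_sum_irr (isClassFunction_char (isCharacter_mul hθ hθ))) g
  have hle : ∀ ψ ∈ plus X K, c ψ ≤ 1 := fun ψ hψ => S.coeff_le_one hexp hc1 hψ
  have hAle : (∑ ψ ∈ plus X K, c ψ) + 1 ≤ K := by
    have h3 := Finset.sum_le_sum hle
    rw [Finset.sum_const, smul_eq_mul, mul_one] at h3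
    have := S.card_plus (plus X K) fun χ hχ => Finset.mem_filter.1 hχ
    omega
  refine ⟨c, hexp, hc1, hcθ1, hcθ', hle, ?_, ?_, fun χ _ h => hcbig χ h, d, fun g => ?_,
    fun χ _ h => hdbig χ h, hB, ?_⟩
  · exact Finset.sum_eq_zero_iff.1 (by omega)
  · omega
  · simpa [hd] using congrFun (eq_sum_irr (isClassFunction_char (isCharacter_mul hθ hθ'))) g
  · have h4 : ∑ ψ ∈ Finset.univ \ (X ∪ Y), d ψ * (charDegree (ψ : G → ℂ) / p) = 1 := by omega
    refine h4.symm.le.trans (Finset.sum_le_sum fun ψ hψ => ?_)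
    have h5 := Finset.single_le_sum
      (f := fun ψ : IrrCharacter G => d ψ * (charDegree (ψ : G → ℂ) / p))
      (fun _ _ => Nat.zero_le _) hψ
    simp only [h4] at h5
    rcases Nat.eq_zero_or_pos (d ψ) with h0 | h0
    · simp [h0]
    · exact h5.trans (Nat.mul_pos h0 h0)

/-- At least `K` characters of the block have degree `p - 1`. -/
theorem Mid.card_minus (S : Mid P M X Y δ K θ θ') : K ≤ (minus X K).card := by
  classical
  obtain ⟨c, hc, hc1, hcθ, hcθ', hcA, hcB, hcO, hcbig, d, hd, hdbig, hdB, hdO⟩ := S.square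
  obtain ⟨c', hc', hc1', hc'θ', hc'θ, hc'A, hc'B, hc'O, -, -⟩ := S.symm.square
  have hreal : ∀ g, conj ((θ' : G → ℂ) g) = (θ' : G → ℂ) g := S.symm.real
  have inner : ∀ (F F' : G → ℂ) (a b : IrrCharacter G → ℕ),
      (∀ g, F g = ∑ ψ, (a ψ : ℂ) * (ψ : G → ℂ) g) → (∀ g, F' g = ∑ ψ, (b ψ : ℂ) * (ψ : G → ℂ) g) →
      classInner F F' = ((∑ ψ, a ψ * b ψ : ℕ) : ℂ) := by
    intro F F' a b ha hb
    rw [show F = ∑ ψ : IrrCharacter G, (a ψ : ℂ) • (ψ : G → ℂ) by funext g; simp [ha g],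
      show F' = ∑ ψ : IrrCharacter G, (b ψ : ℂ) • (ψ : G → ℂ) by funext g; simp [hb g],
      classInner_sum_left, Nat.cast_sum]
    refine Finset.sum_congr rfl fun ψ _ => ?_
    rw [classInner_smul_left, classInner_sum_right, Finset.sum_eq_single ψ (fun χ _ hχ => by
        rw [classInner_smul_right, classInner_irr_ne ψ.2 χ.2 (fun e => hχ (Subtype.ext e).symm), mul_zero])
        (fun h0 => absurd (Finset.mem_univ _) h0),
      classInner_smul_right, classInner_irr_self ψ.2, mul_one, Complex.conj_natCast, Nat.cast_mul]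
  have key : ∑ ψ, d ψ * d ψ = ∑ ψ, c ψ * c' ψ := by
    apply Nat.cast_injective (R := ℂ)
    rw [← inner _ _ d d hd hd, ← inner _ _ c c' hc hc']
    simp only [classInner, map_mul, S.real, hreal]
    congr 1
    exact Finset.sum_congr rfl fun g _ => by ring
  have hz : ∀ ψ ∈ Finset.univ \ (X ∪ Y), 1 ≤ charDegree (ψ : G → ℂ) / p := fun ψ hψ => by
    have h1 := (outside S.hM P S.hPc S.hC (S.out_not_mem hψ)).2
    refine (Nat.one_le_div_iff (Fact.out : p.Prime).pos).2 (Nat.le_of_dvd (Nat.pos_of_ne_zero fun h => ?_) h1)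
    exact irr_one_ne_zero ψ (by rw [← irr_charDegree_cast, h, Nat.cast_zero])
  have hup : ∑ ψ, c ψ * c' ψ ≤ K + 1 := by
    rw [S.split _ fun χ hχ h => by rw [hcbig χ hχ h, zero_mul]]
    have h1 : ∑ ψ ∈ plus X K, c ψ * c' ψ + 1 ≤ K := by
      refine le_trans (Nat.add_le_add_right ((Finset.sum_le_sum fun ψ hψ =>
        Nat.mul_le_mul (hcA ψ hψ) (hc'A ψ hψ)).trans_eq ?_) 1)
        (S.card_plus (plus X K) fun χ hχ => Finset.mem_filter.1 hχ)
      rw [Finset.sum_const, smul_eq_mul, mul_one, mul_one]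
    have h2 : ∑ ψ ∈ minus X K, c ψ * c' ψ = 0 :=
      Finset.sum_eq_zero fun ψ hψ => by rw [hcB ψ hψ, zero_mul]
    have h3 : ∑ ψ ∈ Finset.univ \ (X ∪ Y), c ψ * c' ψ ≤ 1 := by
      have h4 : ∀ a : IrrCharacter G → ℕ,
          ∑ ψ ∈ Finset.univ \ (X ∪ Y), a ψ * (charDegree (ψ : G → ℂ) / p) = 1 →
          ∑ ψ ∈ Finset.univ \ (X ∪ Y), a ψ ≤ 1 := fun a ha =>
        ha ▸ Finset.sum_le_sum fun ψ hψ => Nat.le_mul_of_pos_right _ (hz ψ hψ)
      refine le_trans ?_ (Nat.mul_le_mul (h4 c hcO) (h4 c' hc'O))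
      rw [Finset.sum_mul_sum]
      exact Finset.sum_le_sum fun ψ hψ =>
        Finset.single_le_sum (f := fun χ => c ψ * c' χ) (fun _ _ => Nat.zero_le _) hψ
    rw [hc1, hc1', hcθ, hc'θ, hcθ', hc'θ', h2]
    omega
  have hsq : ∑ ψ ∈ minus X K, d ψ * d ψ ≤ K := by
    have h := S.split (fun ψ => d ψ * d ψ) fun χ hχ h => by
      show d χ * d χ = 0
      rw [hdbig χ hχ h, zero_mul]
    omega
  have hle : ∀ ψ ∈ minus X K, d ψ ≤ 1 := by
    intro ψ hψ
    have h1 : ∀ χ ∈ minus X K, d χ ≤ d χ * d χ := fun χ _ => Nat.le_mul_self _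
    have h2 : ∑ χ ∈ minus X K, d χ = ∑ χ ∈ minus X K, d χ * d χ :=
      le_antisymm (Finset.sum_le_sum h1) (hsq.trans hdB.ge)
    have h3 := ((Finset.sum_eq_sum_iff_of_le h1).1 h2) ψ hψ
    by_contra h4
    nlinarith
  have h5 := Finset.sum_le_sum hle
  rw [hdB, Finset.sum_const, smul_eq_mul, mul_one] at h5
  exact h5

end CfsgLib.SmallCofactor
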